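import Cfsg.Agent.H21.Base2.LinkTransfer

/-!
Every frame of a two-section over a small field gives a model.
-/

set_option autoImplicit false
set_option linter.style.haveILetI false
set_option linter.unusedSectionVars false

namespace H21.Base2.Link

open Module H27.Base2

variable {K V : Type} [Field K] [Finite K] [AddCommGroup V] [Module K V] [Finite V]
variable [Nontrivial V] {G : Subgroup (Module.End K V)ˣ} {S : Sect G} (F : S.MFrame)

theorem finrank_eq (hG : LinSetup G) [Fintype F.U] (htop : LinearMap.range (F.Ψ hG) = ⊤) :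
    finrank K V = Nat.card F.U * finrank K ↥F.B0 := by
  have e := LinearEquiv.ofBijective (F.Ψ hG) ⟨(F.Ψ_spec hG).1, LinearMap.range_eq_top.1 htop⟩
  rw [← e.finrank_eq, Module.finrank_pi_fintype, Finset.sum_const, Finset.card_univ, smul_eq_mul,
    Nat.card_eq_fintype_card]

theorem closure_eq_top {s : Set S.N} (h : ∀ q : S.N, (∀ t ∈ s, S.pairing.β q t = 1) → q = 1) :
    Subgroup.closure s = ⊤ := by
  have hperp : S.pairing.perp (Subgroup.closure s) = ⊥ :=
    (Subgroup.eq_bot_iff_forall _).2 fun q hq => h q fun t ht => hq t (Subgroup.subset_closure ht)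
  refine Subgroup.eq_top_of_le_card _ ?_
  have := S.pairing.index_perp_le (ι := Units.coeHom K) Units.val_injective (Subgroup.closure s)
  rwa [hperp, Subgroup.index_bot] at this

theorem sys_untwisted (hG : LinSetup G) (hr : S.r = 2) [Fintype F.U]
    (htop : LinearMap.range (F.Ψ hG) = ⊤) (ha : F.a = 1) (hperp : S.pairing.perp F.D = F.D) :
    ∃ k, Nonempty (Sys F false k) ∧ Nat.card F.U = 2 ^ k ∧ finrank K ↥F.B0 = 1 := by
  obtain ⟨m, X, Z, hcard, hXX, hZX, hXsq, hZD, hZfix, -, hcoord, hDtriv⟩ :=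
    exists_XZ F hG hr ∅ (fun y hy => absurd hy (Set.notMem_empty y))
      (fun q => ⟨F.t hG q, F.cls_t hG q, fun y hy => absurd hy (Set.notMem_empty y)⟩)
  have hB : finrank K ↥F.B0 = 1 := by
    have : F.B0 = Submodule.span K {F.u} := by
      show Submodule.span K {F.u, S.op F.a F.u} = _
      rw [ha, S.op_one, Module.End.one_apply, Set.pair_eq_singleton]
    rw [this, finrank_span_singleton F.u_ne]
  refine ⟨m, ⟨⟨X, Z, hXX, hZX, fun i v => ?_, fun i => ?_, Or.inl ?_, ?_, ?_⟩⟩, hcard, hB⟩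
  · rw [hXsq]; simp [special]
  · rw [hZfix i _ F.u_mem]; simp [special]
  · rw [ha, S.op_one, Module.End.one_apply]
  · refine closure_eq_top fun q hq => ?_
    obtain ⟨x, rfl⟩ := QuotientGroup.mk_surjective q
    have h1 := hcoord x fun i => hq _ (Or.inr ⟨i, rfl⟩)
    exact hDtriv x (hperp ▸ h1) fun i => hq _ (Or.inl ⟨i, rfl⟩)
  · rw [finrank_eq F hG htop, hB, mul_one, hcard]

theorem sys_twisted (hG : LinSetup G) (hr : S.r = 2) [Fintype F.U]
    (htop : LinearMap.range (F.Ψ hG) = ⊤) (hns : ¬ IsSquare (-1 : K)) (h3 : Nat.card K = 3)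
    (haP : (QuotientGroup.mk F.a : S.N) ∈ S.pairing.perp F.D)
    (haD : (QuotientGroup.mk F.a : S.N) ∉ F.D) :
    ∃ k, Nonempty (Sys F true (k + 1)) ∧ Nat.card F.U = 2 ^ k ∧ finrank K ↥F.B0 = 2 := by
  classical
  have hne := neg_one_ne_one hr
  have hneg : ∀ x : ↥S.M, (QuotientGroup.mk x : S.N) ∈ S.pairing.perp F.D →
      (QuotientGroup.mk x : S.N) ∉ F.D →
      ((∀ v : V, S.op x (S.op x v) = v) ∨ ∀ v : V, S.op x (S.op x v) = -v) →
      ∀ v : V, S.op x (S.op x v) = -v := fun x hx hxD h =>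
    h.resolve_left fun h' => hxD (mem_D_of_sq F hr hx h')
  obtain ⟨a, hamk, hasq⟩ := exists_signed hG hr F.a
  rw [← hamk] at haP haD
  have haa := hneg a haP haD hasq
  -- commuting with `a` inside the orthogonal
  have hcomA : ∀ x : ↥S.M, (QuotientGroup.mk x : S.N) ∈ S.pairing.perp F.D → S.β a x = 1 →
      (QuotientGroup.mk x : S.N) ∈ F.D ∨ (QuotientGroup.mk (a * x) : S.N) ∈ F.D := by
    intro x hx hax
    by_cases hxD : (QuotientGroup.mk x : S.N) ∈ F.D
    · exact Or.inl hxD
    obtain ⟨y, hy, hy2⟩ := exists_signed hG hr x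
    have hyy := hneg y (hy.symm ▸ hx) (hy.symm ▸ hxD) hy2
    have hay : S.β a y = 1 := by rw [← Sect.pairing_mk, hy, Sect.pairing_mk, hax]
    right
    rw [QuotientGroup.mk_mul, ← hy, ← QuotientGroup.mk_mul]
    refine mem_D_of_sq F hr (by rw [QuotientGroup.mk_mul, hy]; exact mul_mem haP hx) fun v => ?_
    simp only [S.op_mul, Module.End.mul_apply]
    rw [S.apply_comm (x := y) (y := a) (by rw [β_comm hr, hay]), haa, hyy, neg_neg]
  have hspec := F.Ψ_spec hG
  have hB : finrank K ↥F.B0 = 2 := by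
    rcases hspec.2.2 with ⟨-, h⟩ | ⟨h, -⟩
    · exfalso
      rw [h] at hamk
      exact haD (hamk ▸ QuotientGroup.mk_one S.Z ▸ F.D.one_mem)
    · exact h
  -- an element not commuting with `a`
  obtain ⟨b0, hb0P, hb0⟩ : ∃ x : ↥S.M, (QuotientGroup.mk x : S.N) ∈ S.pairing.perp F.D ∧ S.β a x = -1 := by
    by_contra hcon
    push Not at hcon
    have hsub : S.pairing.perp F.D ≤ F.D ⊔ Subgroup.zpowers (QuotientGroup.mk a : S.N) := by
      intro q hq
      obtain ⟨x, rfl⟩ := QuotientGroup.mk_surjective q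
      rcases hcomA x hq ((β_cases hr a x).resolve_right (hcon x hq)) with h | h
      · exact Subgroup.mem_sup_left h
      · have := mul_mem (Subgroup.mem_sup_right (inv_mem (Subgroup.mem_zpowers (QuotientGroup.mk a : S.N))))
          (Subgroup.mem_sup_left (T := Subgroup.zpowers (QuotientGroup.mk a : S.N)) h)
        rwa [QuotientGroup.mk_mul, inv_mul_cancel_left] at this
    have h1 : F.D.relIndex (S.pairing.perp F.D) ≤ 2 := by
      refine Nat.le_of_dvd two_pos ?_
      have hle : F.D ⊔ Subgroup.zpowers (QuotientGroup.mk a : S.N) = S.pairing.perp F.D :=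
        le_antisymm (sup_le F.D_le_perp (Subgroup.zpowers_le.2 haP)) hsub
      rw [← hle, sup_comm, Subgroup.relIndex_sup_right]
      refine (Subgroup.relIndex_dvd_card F.D (Subgroup.zpowers (QuotientGroup.mk a : S.N))).trans ?_
      rw [Nat.card_zpowers]
      exact orderOf_dvd_of_pow_eq_one (by rw [← hr]; exact S.pow_r _)
    have hcardN := hspec.2.1
    rw [htop, finrank_top, finrank_eq F hG htop, hB] at hcardN
    have hle := S.pairing.index_perp_le (ι := Units.coeHom K) Units.val_injective F.D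
    have hDU : Nat.card ↥F.D ≤ (S.pairing.perp F.D).index := by
      haveI : Finite F.U := Quotient.finite _
      let θ : ↥F.D → (F.U →* K) := fun d => (Units.coeHom K).comp (QuotientGroup.lift (S.pairing.perp F.D)
        (S.pairing.β (d : S.N)) fun q hq => S.pairing.symm_eq_one (hq _ d.2))
      haveI := H35.OddBase.finite_monoidHom F.U K
      refine (Nat.card_le_card_of_injective θ fun d d' h => ?_).trans (H35.OddBase.card_monoidHom_le F.U K)
      refine Subtype.ext (S.pairing.injective (MonoidHom.ext fun q => Units.val_injective ?_))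
      exact DFunLike.congr_fun h (QuotientGroup.mk q)
    have hU : Nat.card F.U = (S.pairing.perp F.D).index := rfl
    have hN : Nat.card S.N = (S.pairing.perp F.D).index *
        (F.D.relIndex (S.pairing.perp F.D) * Nat.card ↥F.D) := by
      rw [← Subgroup.index_mul_card F.D, ← Subgroup.relIndex_mul_index F.D_le_perp]; ring
    rw [hU, hN] at hcardN
    have hpos : 0 < (S.pairing.perp F.D).index := Nat.pos_of_ne_zero Subgroup.index_ne_zero_of_finite
    have h4 := Nat.mul_le_mul h1 hDU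
    have h5 := Nat.mul_le_mul_left (S.pairing.perp F.D).index h4
    rw [hcardN] at h5
    nlinarith
  obtain ⟨b1, hb1mk, hb1sq⟩ := exists_signed hG hr b0
  rw [← hb1mk] at hb0P
  have hab : S.β a b1 = -1 := by rw [← Sect.pairing_mk, hb1mk, Sect.pairing_mk, hb0]
  have hb1D : (QuotientGroup.mk b1 : S.N) ∉ F.D := fun h => hne (by
    rw [← hab, β_comm hr b1 a, β_D_perp F h haP])
  have hbb1 := hneg b1 hb0P hb1D hb1sq
  have habv : ∀ v : V, S.op a (S.op b1 v) = -(S.op b1 (S.op a v)) := fun v => by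
    rw [apply_swap, hab, Units.val_neg, Units.val_one, neg_one_smul]
  -- the block
  obtain ⟨s0, hs0⟩ : ∃ s0 : Kˣ, (a : (Module.End K V)ˣ) = F.a * scalarU K V s0 := by
    obtain ⟨c, hc⟩ := S.mem_Z.1 (QuotientGroup.eq.1 hamk.symm)
    exact ⟨c, by rw [hc, Subgroup.coe_mul, Subgroup.coe_inv, mul_inv_cancel_left]⟩
  have hau : S.op a F.u = (s0 : K) • S.op F.a F.u := by
    show ((a : (Module.End K V)ˣ) : Module.End K V) F.u = _
    rw [hs0, Units.val_mul, Module.End.mul_apply, scalarU_apply, map_smul]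
  have hpair : ∀ s t : K, s • F.u + t • S.op a F.u = 0 → s = 0 ∧ t = 0 := by
    intro s t h
    by_cases ht : t = 0
    · rw [ht, zero_smul, add_zero] at h
      exact ⟨(smul_eq_zero.1 h).resolve_right F.u_ne, ht⟩
    exfalso
    refine haD ((F.mem_D a).2 ⟨-(t⁻¹ * s), ?_⟩)
    rw [add_comm] at h
    have h' := eq_neg_of_add_eq_zero_left h
    calc S.op a F.u = t⁻¹ • (t • S.op a F.u) := (inv_smul_smul₀ ht _).symm
      _ = _ := by rw [h', smul_neg, smul_smul, neg_smul]
  obtain ⟨s, t, hst⟩ : ∃ s t : K, S.op b1 F.u = s • F.u + t • S.op a F.u := by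
    obtain ⟨s, t, h⟩ := Submodule.mem_span_pair.1 (F.inv b1 hb0P _ F.u_mem)
    refine ⟨s, t * ((s0⁻¹ : Kˣ) : K), ?_⟩
    rw [← h, hau, smul_smul, mul_assoc, ← Units.val_mul, inv_mul_cancel, Units.val_one, mul_one]
  have hsum : s ^ 2 + t ^ 2 = -1 := by
    have h1 := hbb1 F.u
    rw [hst, map_add, map_smul, map_smul, hst] at h1
    have h2 : S.op b1 (S.op a F.u) = -(S.op a (s • F.u + t • S.op a F.u)) := by
      rw [← hst, habv, neg_neg]
    rw [h2, map_add, map_smul, map_smul, haa] at h1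
    have h3 : (s ^ 2 + t ^ 2 + 1) • F.u + (0 : K) • S.op a F.u = 0 := by
      rw [eq_neg_iff_add_eq_zero] at h1
      rw [← h1]
      simp only [smul_add, smul_neg, smul_smul, neg_add_rev, neg_neg, add_smul, one_smul, zero_smul, sq]
      rw [mul_comm s t]; abel
    exact eq_neg_of_add_eq_zero_left (hpair _ _ h3).1
  haveI := Fintype.ofFinite K
  have h3' : Fintype.card K = 3 := by rw [← Nat.card_eq_fintype_card]; exact h3
  have hcases : ∀ c : K, c = 0 ∨ c = 1 ∨ c = -1 := by
    intro c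
    by_cases hc : c = 0
    · exact Or.inl hc
    right
    have h := FiniteField.pow_card_sub_one_eq_one c hc
    rw [h3'] at h
    rcases sq_eq_one_iff.1 h with e | e
    · exact Or.inl e
    · exact Or.inr e
  have hs : s = 1 ∨ s = -1 := (hcases s).resolve_left fun h => hns ⟨t, by
    rw [← hsum, h]; ring⟩
  have ht : t = 1 ∨ t = -1 := (hcases t).resolve_left fun h => hns ⟨s, by
    rw [← hsum, h]; ring⟩
  -- normalise `b`
  obtain ⟨b, hbP, hab', hbu⟩ : ∃ b : ↥S.M, (QuotientGroup.mk b : S.N) ∈ S.pairing.perp F.D ∧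
      S.β a b = -1 ∧ S.op b F.u = F.u + S.op a F.u := by
    let n1 : ↥S.M := ⟨scalarU K V (-1), S.scal ⟨-1, rfl⟩⟩
    have hn1 : (QuotientGroup.mk n1 : S.N) = 1 := (QuotientGroup.eq_one_iff n1).2 (S.mem_Z.2 ⟨-1, rfl⟩)
    have hmk : ∀ x : ↥S.M, (QuotientGroup.mk (x * n1) : S.N) = QuotientGroup.mk x := fun x => by
      rw [QuotientGroup.mk_mul, hn1, mul_one]
    have hβ1 : ∀ x : ↥S.M, S.β a (x * n1) = S.β a x := fun x => by
      rw [← Sect.pairing_mk, hmk, Sect.pairing_mk]
    have hn1v : ∀ v : V, S.op n1 v = -v := fun v => by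
      rw [scalar_apply (x := n1) rfl, Units.val_neg, Units.val_one, neg_one_smul]
    have habP : (QuotientGroup.mk (a * b1) : S.N) ∈ S.pairing.perp F.D := by
      rw [QuotientGroup.mk_mul]; exact mul_mem haP hb0P
    have hab2 : S.β a (a * b1) = -1 := by rw [S.β_mul_right, S.β_self, one_mul, hab]
    rcases hs with rfl | rfl <;> rcases ht with rfl | rfl
    · exact ⟨b1, hb0P, hab, by rw [hst, one_smul, one_smul]⟩
    · exact ⟨a * b1, habP, hab2, by
        rw [S.op_mul, Module.End.mul_apply, hst, map_add, map_smul, map_smul, haa]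
        module⟩
    · refine ⟨a * b1 * n1, by rw [hmk]; exact habP, by rw [hβ1]; exact hab2, ?_⟩
      simp only [S.op_mul, Module.End.mul_apply]
      rw [hn1v, map_neg, map_neg, hst, map_add, map_smul, map_smul, haa]
      module
    · refine ⟨b1 * n1, by rw [hmk]; exact hb0P, by rw [hβ1]; exact hab, ?_⟩
      simp only [S.op_mul, Module.End.mul_apply]
      rw [hn1v, map_neg, hst]
      module
  have hrep : ∀ q : F.U, ∃ x : ↥S.M, F.cls x = q ∧ ∀ y ∈ ({a, b} : Set ↥S.M), S.β x y = 1 := by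
    intro q
    have hq := F.cls_t hG q
    have key : ∀ w : ↥S.M, (QuotientGroup.mk w : S.N) ∈ S.pairing.perp F.D →
        S.β w a = S.β (F.t hG q) a → S.β w b = S.β (F.t hG q) b →
        ∃ x : ↥S.M, F.cls x = q ∧ ∀ y ∈ ({a, b} : Set ↥S.M), S.β x y = 1 := by
      intro w hw h1 h2
      refine ⟨F.t hG q * w, by rw [cls_mul_perp F hw, hq], ?_⟩
      rintro y (rfl | rfl)
      · rw [S.β_mul_left, h1, β_sq hr]
      · rw [S.β_mul_left, h2, β_sq hr]
    rcases β_cases hr (F.t hG q) a with h1 | h1 <;> rcases β_cases hr (F.t hG q) b with h2 | h2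
    · exact ⟨F.t hG q, hq, by rintro y (rfl | rfl) <;> assumption⟩
    · exact key a haP (by rw [S.β_self, h1]) (by rw [hab', h2])
    · exact key b hbP (by rw [β_comm hr a b, hab', h1]) (by rw [S.β_self, h2])
    · exact key (a * b) (by rw [QuotientGroup.mk_mul]; exact mul_mem haP hbP)
        (by rw [S.β_mul_left, S.β_self, one_mul, β_comm hr a b, hab', h1])
        (by rw [S.β_mul_left, S.β_self, mul_one, hab', h2])
  obtain ⟨m, X, Z, hcard, hXX, hZX, hXsq, hZD, hZfix, hXA, hcoord, hDtriv⟩ :=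
    exists_XZ F hG hr {a, b} (by rintro y (rfl | rfl) <;> assumption) hrep
  have hXa : ∀ i, S.β (X i) a = 1 := fun i => hXA i a (Or.inl rfl)
  have hXb : ∀ i, S.β (X i) b = 1 := fun i => hXA i b (Or.inr rfl)
  refine ⟨m, ⟨⟨Fin.cons a X, Fin.cons b Z, fun i j => ?_, fun i j => ?_, fun i v => ?_, fun i => ?_,
    Or.inr ⟨0, (s0⁻¹ : Kˣ), ?_⟩, ?_, ?_⟩⟩, hcard, hB⟩
  · refine Fin.cases ?_ (fun i => ?_) i <;> refine Fin.cases ?_ (fun j => ?_) j <;>
      simp only [Fin.cons_zero, Fin.cons_succ]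
    · exact S.β_self a
    · rw [β_comm hr, hXa]
    · exact hXa i
    · exact hXX i j
  · refine Fin.cases ?_ (fun i => ?_) i <;> refine Fin.cases ?_ (fun j => ?_) j <;>
      simp only [Fin.cons_zero, Fin.cons_succ]
    · rw [if_pos trivial, β_comm hr a b, hab']
    · rw [if_neg (Fin.succ_ne_zero j).symm, β_comm hr, hXb]
    · rw [if_neg (Fin.succ_ne_zero i), β_D_perp F (hZD i) haP]
    · rw [hZX]; simp only [Fin.succ_inj]
  · refine Fin.cases ?_ (fun i => ?_) i <;> simp only [Fin.cons_zero, Fin.cons_succ]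
    · rw [haa]; simp [special]
    · rw [hXsq]; simp [special]
  · refine Fin.cases ?_ (fun i => ?_) i <;> simp only [Fin.cons_zero, Fin.cons_succ]
    · rw [hbu]; simp [special]
    · rw [hZfix i _ F.u_mem]; simp [special]
  · rw [Fin.cons_zero, hau, smul_smul, ← Units.val_mul, inv_mul_cancel, Units.val_one, one_smul]
  · refine closure_eq_top fun q hq => ?_
    obtain ⟨x, rfl⟩ := QuotientGroup.mk_surjective q
    have hx : ∀ i : Fin (m + 1), S.β x (Fin.cons (α := fun _ => ↥S.M) a X i) = 1 ∧ S.β x (Fin.cons (α := fun _ => ↥S.M) b Z i) = 1 :=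
      fun i => ⟨hq _ (Or.inl ⟨i, rfl⟩), hq _ (Or.inr ⟨i, rfl⟩)⟩
    have hxP := hcoord x fun i => by simpa using (hx i.succ).2
    have hxa : S.β x a = 1 := by simpa using (hx 0).1
    have hxb : S.β x b = 1 := by simpa using (hx 0).2
    refine hDtriv x ?_ fun i => by simpa using (hx i.succ).1
    refine (hcomA x hxP (by rw [β_comm hr, hxa])).resolve_right fun h => hne ?_
    have h1 := β_D_perp F h hbP
    rw [S.β_mul_left, hab', hxb, mul_one] at h1
    exact h1
  · rw [finrank_eq F hG htop, hB, hcard, pow_succ]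

/-- Every two-section over a field with three or five elements comes from a model. -/
theorem exists_model (hG : LinSetup G) (hr : S.r = 2) [Fintype F.U]
    (htop : LinearMap.range (F.Ψ hG) = ⊤) {p : ℕ} (hK : Nat.card K = p) (hp : p = 3 ∨ p = 5) :
    ∃ (tw : Bool) (k : ℕ) (Θ : V ≃ₗ[K] (Fin (2 ^ k) → K))
      (Γ : Subgroup (Module.End K (Fin (2 ^ k) → K))ˣ),
      ModelSetup (twisted := tw) Γ ∧ (∀ g ∈ G, conjU Θ g ∈ Γ) ∧
      (tw = true ↔ finrank K ↥F.B0 = 2) ∧ Nat.card F.U = 2 ^ (if tw then k - 1 else k) ∧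
      (tw = true → p = 3) := by
  rcases F.shape with ⟨ha, hperp⟩ | ⟨-, hns, haP, haD, -⟩
  · obtain ⟨k, ⟨Y⟩, hcard, hB⟩ := sys_untwisted F hG hr htop ha hperp
    obtain ⟨Θ, hΘ⟩ := Y.modelSetup hG hr htop
    exact ⟨false, k, Θ, _, hΘ, fun g hg => ⟨g, hg, rfl⟩, by simp [hB], by simpa using hcard, by simp⟩
  · have h3 : p = 3 := hp.resolve_right fun h5 => by
      apply hns
      haveI := Fintype.ofFinite K
      have h : ((5 : ℕ) : K) = 0 := by
        rw [← h5, ← hK, Nat.card_eq_fintype_card, FiniteField.cast_card_eq_zero]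
      refine ⟨2, ?_⟩
      push_cast at h
      linear_combination (-1 : K) * h
    obtain ⟨k, ⟨Y⟩, hcard, hB⟩ := sys_twisted F hG hr htop hns (hK.trans h3) haP haD
    obtain ⟨Θ, hΘ⟩ := Y.modelSetup hG hr htop
    exact ⟨true, k + 1, Θ, _, hΘ, fun g hg => ⟨g, hg, rfl⟩, by simp [hB], by simpa using hcard, fun _ => h3⟩

end H21.Base2.Link
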