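import Cfsg.Agent.H21.Base2.LinkSys

/-!
The explicit model of a two-section: coordinates in which the generators become the Pauli operators.
-/

set_option autoImplicit false
set_option linter.style.haveILetI false
set_option linter.unusedSectionVars false

namespace H21.Base2.Link

open Module H27.Base2

/-- The special index of the twisted model. -/
def special {k : ℕ} (tw : Bool) (i : Fin k) : Bool := tw && ((i : ℕ) == 0)

theorem testBit_flip {k i : ℕ} (hi : i < k) (c : Fin (2 ^ k)) (l : ℕ) :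
    Nat.testBit (flipBit i hi c : Fin (2 ^ k)) l = (if i = l then !Nat.testBit c l else Nat.testBit c l) := by
  show Nat.testBit ((c : ℕ) ^^^ 2 ^ i) l = _
  rw [Nat.testBit_xor, Nat.testBit_two_pow]
  split_ifs with h <;> simp [h]

theorem flip_flip {k i : ℕ} (hi : i < k) (c : Fin (2 ^ k)) : flipBit i hi (flipBit i hi c) = c :=
  Fin.ext (by show ((c : ℕ) ^^^ 2 ^ i) ^^^ 2 ^ i = c; rw [Nat.xor_assoc, Nat.xor_self, Nat.xor_zero])

theorem flip_ne {k i : ℕ} (hi : i < k) (c : Fin (2 ^ k)) : flipBit i hi c ≠ c := fun h => by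
  have := testBit_flip hi c i
  rw [h, if_pos rfl] at this
  simp at this

section Gen

variable {K : Type} [Field K]

theorem gen_x {k : ℕ} (tw : Bool) (i : Fin k) (j : Fin (2 * k)) (hj : (j : ℕ) = 2 * i)
    (c : Fin (2 ^ k)) (r : K) :
    gen K tw k j (Pi.single c r) =
      Pi.single (flipBit i i.2 c) (if special tw i && Nat.testBit c i then -r else r) := by
  funext b
  show genFun K tw k j (Pi.single c r) b = _
  have h2 : (j : ℕ) / 2 = i := by omega
  have h3 : (j : ℕ) % 2 = 0 := by omega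
  simp only [genFun, h2, h3, if_true, special]
  by_cases hb : b = flipBit i i.2 c
  · subst hb
    rw [flip_flip, Pi.single_eq_same, Pi.single_eq_same, testBit_flip, if_pos rfl]
    cases tw <;> cases Nat.testBit (c : ℕ) i <;> by_cases h0 : ((i : ℕ) == 0) = true <;> simp [h0, -beq_iff_eq]
  · rw [Pi.single_eq_of_ne hb, Pi.single_eq_of_ne fun h => hb (by rw [← h, flip_flip])]
    simp

theorem gen_z {k : ℕ} (tw : Bool) (i : Fin k) (j : Fin (2 * k)) (hj : (j : ℕ) = 2 * i + 1)
    (c : Fin (2 ^ k)) (r : K) :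
    gen K tw k j (Pi.single c r) =
      Pi.single c (if Nat.testBit c i then -r else r) +
        (if special tw i then Pi.single (flipBit i i.2 c) r else 0) := by
  funext b
  show genFun K tw k j (Pi.single c r) b = _
  have h2 : (j : ℕ) / 2 = i := by omega
  have h3 : ¬ (j : ℕ) % 2 = 0 := by omega
  simp only [genFun, h2, if_neg h3, special, Pi.add_apply]
  by_cases hb : b = c
  · subst hb
    rw [Pi.single_eq_of_ne (flip_ne i.2 b)]
    cases tw <;> cases Nat.testBit (b : ℕ) i <;> by_cases h0 : ((i : ℕ) == 0) = true <;>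
      simp [h0, -beq_iff_eq, Pi.single_eq_of_ne (flip_ne i.2 b).symm]
  by_cases hf : b = flipBit i i.2 c
  · subst hf
    rw [flip_flip, testBit_flip, if_pos rfl]
    cases tw <;> cases Nat.testBit (c : ℕ) i <;> by_cases h0 : ((i : ℕ) == 0) = true <;>
      simp [h0, -beq_iff_eq, Pi.single_eq_of_ne hb]
  · rw [Pi.single_eq_of_ne hb, Pi.single_eq_of_ne fun h => hf (by rw [← h, flip_flip])]
    cases tw <;> by_cases h0 : ((i : ℕ) == 0) = true <;> simp [h0, -beq_iff_eq, Pi.single_eq_of_ne hb, Pi.single_eq_of_ne hf]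

end Gen

variable {K V : Type} [Field K] [Finite K] [AddCommGroup V] [Module K V] [Finite V]
variable [Nontrivial V] {G : Subgroup (Module.End K V)ˣ} {S : Sect G}

/-- A family of generators realising the model on a frame. -/
structure Sys (F : S.MFrame) (tw : Bool) (k : ℕ) where
  x : Fin k → ↥S.M
  z : Fin k → ↥S.M
  xx : ∀ i l, S.β (x i) (x l) = 1
  zx : ∀ i l, S.β (z i) (x l) = if i = l then -1 else 1
  sq : ∀ i, ∀ v : V, S.op (x i) (S.op (x i) v) = if special tw i then -v else v
  zu : ∀ i, S.op (z i) F.u = if special tw i then F.u + S.op (x i) F.u else F.u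
  au : S.op F.a F.u = F.u ∨ ∃ (i : Fin k) (c : K), S.op F.a F.u = c • S.op (x i) F.u
  gens : Subgroup.closure (Set.range (fun i => (QuotientGroup.mk (x i) : S.N)) ∪
    Set.range (fun i => (QuotientGroup.mk (z i) : S.N))) = ⊤
  dim : finrank K V = 2 ^ k

namespace Sys

variable {F : S.MFrame} {tw : Bool} {k : ℕ} (Y : Sys F tw k)

/-- The product of the selected `x`, below a bound. -/
noncomputable def Pop : ℕ → Fin (2 ^ k) → Module.End K V
  | 0, _ => 1
  | n + 1, c => (if h : n < k then (if Nat.testBit c n then S.op (Y.x ⟨n, h⟩) else 1) else 1) * Pop n c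

theorem Pop_congr (n : ℕ) (c c' : Fin (2 ^ k))
    (h : ∀ l < n, Nat.testBit (c : ℕ) l = Nat.testBit (c' : ℕ) l) : Y.Pop n c = Y.Pop n c' := by
  induction n with
  | zero => rfl
  | succ n ih => rw [Pop, Pop, ih fun l hl => h l (by omega), h n (by omega)]

theorem x_comm (i : Fin k) (n : ℕ) (c : Fin (2 ^ k)) (v : V) :
    S.op (Y.x i) (Y.Pop n c v) = Y.Pop n c (S.op (Y.x i) v) := by
  induction n generalizing v with
  | zero => rfl
  | succ n ih =>
    rw [Pop, Module.End.mul_apply, Module.End.mul_apply]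
    split_ifs with h1 h2
    · rw [S.apply_comm (Y.xx i ⟨n, h1⟩), ih]
    · rw [Module.End.one_apply, Module.End.one_apply, ih]
    · rw [Module.End.one_apply, Module.End.one_apply, ih]

theorem z_move (i : Fin k) (n : ℕ) (c : Fin (2 ^ k)) (v : V) :
    S.op (Y.z i) (Y.Pop n c v) =
      (if (i : ℕ) < n ∧ Nat.testBit c i then (-1 : K) else 1) • Y.Pop n c (S.op (Y.z i) v) := by
  induction n generalizing v with
  | zero => simp [Pop]
  | succ n ih =>
    rw [Pop, Module.End.mul_apply, Module.End.mul_apply]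
    by_cases hn : n < k
    swap
    · rw [dif_neg hn, Module.End.one_apply, Module.End.one_apply, ih]
      have : ((i : ℕ) < n + 1) ↔ ((i : ℕ) < n) := by have := i.2; omega
      simp only [this]
    rw [dif_pos hn]
    by_cases hin : (i : ℕ) = n
    · have hi : i = ⟨n, hn⟩ := Fin.ext hin
      have hcond : ¬ ((i : ℕ) < n ∧ Nat.testBit (c : ℕ) i = true) := fun h => by omega
      by_cases hb : Nat.testBit (c : ℕ) n
      · rw [if_pos hb, apply_swap, ih, if_neg hcond, one_smul, Y.zx, if_pos hi, if_pos ⟨by omega, by rw [hin]; exact hb⟩,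
          Units.val_neg, Units.val_one]
      · rw [if_neg hb, Module.End.one_apply, Module.End.one_apply, ih, if_neg hcond,
          if_neg fun h : _ ∧ _ => hb (by rw [← hin]; exact h.2)]
    · have hc : ((i : ℕ) < n + 1) ↔ ((i : ℕ) < n) := by omega
      by_cases hb : Nat.testBit (c : ℕ) n
      · rw [if_pos hb, apply_swap, ih, Y.zx, if_neg (fun h => hin (congrArg Fin.val h)), map_smul,
          Units.val_one, one_smul]
        simp only [hc]
      · rw [if_neg hb, Module.End.one_apply, Module.End.one_apply, ih]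
        simp only [hc]

theorem x_move (i : Fin k) (n : ℕ) (hn : (i : ℕ) < n) (c : Fin (2 ^ k)) (v : V) :
    S.op (Y.x i) (Y.Pop n c v) =
      (if special tw i && Nat.testBit c i then (-1 : K) else 1) • Y.Pop n (flipBit i i.2 c) v := by
  induction n generalizing v with
  | zero => omega
  | succ n ih =>
    rw [Pop, Pop, Module.End.mul_apply, Module.End.mul_apply, testBit_flip]
    by_cases hin : (i : ℕ) = n
    · have hi : i = ⟨n, hin ▸ i.2⟩ := Fin.ext hin
      have hlow : Y.Pop n (flipBit i i.2 c) = Y.Pop n c := Y.Pop_congr _ _ _ fun l hl => by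
        rw [testBit_flip, if_neg (by omega)]
      rw [hlow, if_pos hin, dif_pos (hin ▸ i.2), dif_pos (hin ▸ i.2), ← hi, ← hin]
      by_cases hb : Nat.testBit (c : ℕ) i
      · simp only [hb, Bool.not_true, if_true, Bool.false_eq_true, if_false, Bool.and_true,
          Module.End.one_apply]
        rw [Y.sq]
        split_ifs <;> simp
      · simp [hb]
    · rw [if_neg hin]
      by_cases hk : n < k
      swap
      · rw [dif_neg hk, Module.End.one_apply, Module.End.one_apply, ih (by omega)]
      rw [dif_pos hk]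
      by_cases hb : Nat.testBit (c : ℕ) n
      · rw [if_pos hb, S.apply_comm (Y.xx i _), ih (by omega), map_smul]
      · rw [if_neg hb, Module.End.one_apply, Module.End.one_apply, ih (by omega)]

/-- The basis of the model. -/
noncomputable def vec (c : Fin (2 ^ k)) : V := Y.Pop k c F.u

theorem x_vec (i : Fin k) (c : Fin (2 ^ k)) : S.op (Y.x i) (Y.vec c) =
    (if special tw i && Nat.testBit c i then (-1 : K) else 1) • Y.vec (flipBit i i.2 c) :=
  Y.x_move i k i.2 c F.u

theorem z_vec (i : Fin k) (c : Fin (2 ^ k)) : S.op (Y.z i) (Y.vec c) =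
    (if Nat.testBit c i then (-1 : K) else 1) • Y.vec c +
      (if special tw i then Y.vec (flipBit i i.2 c) else 0) := by
  rw [vec, Y.z_move, Y.zu]
  simp only [i.2, true_and]
  by_cases hs : special tw i
  · rw [if_pos hs, if_pos hs, map_add, smul_add, ← Y.x_comm, Y.x_move i k i.2, hs, smul_smul]
    congr 1
    cases Nat.testBit (c : ℕ) i <;> simp [vec]
  · rw [if_neg hs, if_neg hs, add_zero]

theorem vec_zero : Y.vec ⟨0, Nat.two_pow_pos k⟩ = F.u := by
  have : ∀ n, Y.Pop n ⟨0, Nat.two_pow_pos k⟩ = 1 := by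
    intro n
    induction n with
    | zero => rfl
    | succ n ih => rw [Pop, ih]; simp
  rw [vec, this]; rfl

/-- The coordinates. -/
noncomputable def Φ : (Fin (2 ^ k) → K) →ₗ[K] V := Fintype.linearCombination K Y.vec

theorem Φ_single (c : Fin (2 ^ k)) (r : K) : Y.Φ (Pi.single c r) = r • Y.vec c :=
  Fintype.linearCombination_apply_single _ _ _ _

theorem Φ_gen_x (i : Fin k) (v : Fin (2 ^ k) → K) :
    Y.Φ (gen K tw k ⟨2 * i, by omega⟩ v) = S.op (Y.x i) (Y.Φ v) := by
  have h : Y.Φ ∘ₗ gen K tw k ⟨2 * i, by omega⟩ = S.op (Y.x i) ∘ₗ Y.Φ := by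
    refine LinearMap.pi_ext fun c r => ?_
    rw [LinearMap.comp_apply, LinearMap.comp_apply, gen_x tw i _ rfl, Y.Φ_single, Y.Φ_single,
      map_smul, Y.x_vec, smul_smul]
    split_ifs <;> simp
  exact DFunLike.congr_fun h v

theorem Φ_gen_z (i : Fin k) (v : Fin (2 ^ k) → K) :
    Y.Φ (gen K tw k ⟨2 * i + 1, by omega⟩ v) = S.op (Y.z i) (Y.Φ v) := by
  have h : Y.Φ ∘ₗ gen K tw k ⟨2 * i + 1, by omega⟩ = S.op (Y.z i) ∘ₗ Y.Φ := by
    refine LinearMap.pi_ext fun c r => ?_
    rw [LinearMap.comp_apply, LinearMap.comp_apply, gen_z tw i _ rfl, map_add, Y.Φ_single, Y.Φ_single,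
      map_smul, Y.z_vec, smul_add, smul_smul]
    by_cases hs : special tw i <;> by_cases hb : Nat.testBit (c : ℕ) i <;>
      simp [hs, hb, Y.Φ_single]
  exact DFunLike.congr_fun h v

theorem Φ_bijective (hG : LinSetup G) [Fintype F.U] (htop : LinearMap.range (F.Ψ hG) = ⊤) :
    Function.Bijective Y.Φ := by
  classical
  set R := LinearMap.range Y.Φ with hR
  let P : Subgroup ↥S.M :=
    { carrier := {m | R.map (S.op m) = R}
      one_mem' := by
        show R.map (S.op 1) = R
        rw [S.op_one, Module.End.one_eq_id, Submodule.map_id]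
      mul_mem' := fun {a b} ha hb => by
        show R.map (S.op (a * b)) = R
        rw [S.op_mul, Module.End.mul_eq_comp, Submodule.map_comp,
          show R.map (S.op b) = R from hb]
        exact ha
      inv_mem' := fun {a} ha => by
        show R.map (S.op a⁻¹) = R
        conv_lhs => rw [← show R.map (S.op a) = R from ha]
        rw [← Submodule.map_comp, ← Module.End.mul_eq_comp, ← S.op_mul, inv_mul_cancel, S.op_one,
          Module.End.one_eq_id, Submodule.map_id] }
  have hmem : ∀ m : ↥S.M, (∀ v, ∃ w, Y.Φ w = S.op m (Y.Φ v)) → m ∈ P := by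
    intro m h
    have hinj : Function.Injective (S.op m) :=
      ((Module.End.isUnit_iff _).1 (m : (Module.End K V)ˣ).isUnit).1
    refine Submodule.eq_of_le_of_finrank_le ?_ (le_of_eq (LinearEquiv.finrank_eq
      (Submodule.equivMapOfInjective _ hinj R)))
    rintro _ ⟨_, ⟨v, rfl⟩, rfl⟩
    exact h v
  have hZ : S.Z ≤ P := by
    intro m hm
    obtain ⟨c, hc⟩ := S.mem_Z.1 hm
    exact hmem m fun v => ⟨(c : K) • v, by rw [map_smul, scalar_apply hc.symm]⟩
  have hP : P = ⊤ := by
    have h1 : P.map (QuotientGroup.mk' S.Z) = ⊤ := by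
      rw [eq_top_iff, ← Y.gens, Subgroup.closure_le]
      rintro _ (⟨i, rfl⟩ | ⟨i, rfl⟩)
      · exact ⟨Y.x i, hmem _ fun v => ⟨_, Y.Φ_gen_x i v⟩, rfl⟩
      · exact ⟨Y.z i, hmem _ fun v => ⟨_, Y.Φ_gen_z i v⟩, rfl⟩
    refine eq_top_iff.2 fun m _ => ?_
    obtain ⟨y, hy, hym⟩ := h1.ge (Subgroup.mem_top (QuotientGroup.mk' S.Z m))
    have := P.mul_mem hy (hZ (QuotientGroup.eq.1 hym))
    rwa [mul_inv_cancel_left] at this
  have hop : ∀ (m : ↥S.M) (v : V), v ∈ R → S.op m v ∈ R := fun m v hv =>
    (show R.map (S.op m) = R from (hP ▸ Subgroup.mem_top m : m ∈ P)).le ⟨v, hv, rfl⟩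
  have hu : F.u ∈ R := ⟨Pi.single ⟨0, Nat.two_pow_pos k⟩ 1, by rw [Y.Φ_single, one_smul, Y.vec_zero]⟩
  have hau : S.op F.a F.u ∈ R := by
    rcases Y.au with h | ⟨i, c, h⟩ <;> rw [h]
    · exact hu
    · exact R.smul_mem _ (hop _ _ hu)
  have hB : F.B0 ≤ R := Submodule.span_le.2 (by
    rintro _ (rfl | rfl)
    · exact hu
    · exact hau)
  have hsurj : Function.Surjective Y.Φ := by
    intro v
    obtain ⟨w, rfl⟩ : v ∈ LinearMap.range (F.Ψ hG) := htop ▸ Submodule.mem_top
    show F.Ψ hG w ∈ R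
    rw [Sect.MFrame.Ψ_apply]
    exact R.sum_mem fun q _ => hop _ _ (hB (w q).2)
  refine ⟨(LinearMap.injective_iff_surjective_of_finrank_eq_finrank ?_).2 hsurj, hsurj⟩
  rw [Module.finrank_fintype_fun_eq_card, Fintype.card_fin, Y.dim]

end Sys

end H21.Base2.Link
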