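import Cfsg.Agent.H27.Base2.Trans
import Cfsg.Agent.H27.Base2.ModelSetup

/-!
Generators of a two-section adapted to a frame: coordinates.
-/

set_option autoImplicit false
set_option linter.style.haveILetI false
set_option linter.unusedSectionVars false

namespace H21.Base2.Link

open Module H27.Base2

variable {K V : Type} [Field K] [Finite K] [AddCommGroup V] [Module K V] [Finite V]
variable [Nontrivial V] {G : Subgroup (Module.End K V)ˣ} {S : Sect G}

theorem zmod_two_cases : ∀ s : ZMod 2, s = 0 ∨ s = 1 := by decide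

theorem zmod_two_add : (1 : ZMod 2) + 1 = 0 := by decide

theorem neg_one_ne_one (hr : S.r = 2) : (-1 : Kˣ) ≠ 1 := by
  intro h
  obtain ⟨ζ, hζ⟩ := S.exists_primitiveRoot
  have h2 : (ζ : K) ^ 2 = 1 := by
    rw [← Units.val_pow_eq_pow_val, ← hr, ← hζ, pow_orderOf_eq_one, Units.val_one]
  have h1 : ((-1 : Kˣ) : K) = 1 := by rw [h, Units.val_one]
  rw [Units.val_neg, Units.val_one] at h1
  have : ζ = 1 := Units.ext (by
    rcases sq_eq_one_iff.1 h2 with e | e
    · exact e
    · rw [e, h1, Units.val_one])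
  rw [this, orderOf_one, hr] at hζ
  norm_num at hζ

theorem β_cases (hr : S.r = 2) (x y : ↥S.M) : S.β x y = 1 ∨ S.β x y = -1 := by
  have h := S.β_pow_r x y
  rw [hr] at h
  have h2 : (S.β x y : K) ^ 2 = 1 := by rw [← Units.val_pow_eq_pow_val, h, Units.val_one]
  rcases sq_eq_one_iff.1 h2 with e | e
  · exact Or.inl (Units.ext (by rw [e, Units.val_one]))
  · exact Or.inr (Units.ext (by rw [e, Units.val_neg, Units.val_one]))

theorem β_sq (hr : S.r = 2) (x y : ↥S.M) : S.β x y * S.β x y = 1 := by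
  rcases β_cases hr x y with h | h <;> rw [h] <;> simp

theorem β_comm (hr : S.r = 2) (x y : ↥S.M) : S.β y x = S.β x y := by
  rw [S.β_swap x y, inv_eq_of_mul_eq_one_right (β_sq hr x y)]

theorem apply_swap (x y : ↥S.M) (v : V) :
    S.op x (S.op y v) = (S.β x y : K) • S.op y (S.op x v) := by
  have h := DFunLike.congr_fun (congrArg Units.val (S.β_spec x y)) v
  simpa [Units.val_mul] using h

theorem scalar_apply {x : ↥S.M} {c : Kˣ} (h : (x : (Module.End K V)ˣ) = scalarU K V c) (v : V) :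
    S.op x v = (c : K) • v := by
  show ((x : (Module.End K V)ˣ) : Module.End K V) v = _
  rw [h, scalarU_apply]

theorem sq_apply (hr : S.r = 2) (x : ↥S.M) :
    ∃ c : Kˣ, ((x : (Module.End K V)ˣ) ^ 2 = scalarU K V c) ∧ ∀ v : V, S.op x (S.op x v) = (c : K) • v := by
  obtain ⟨c, hc⟩ := S.pow_mem x x.2
  rw [hr] at hc
  refine ⟨c, hc.symm, fun v => ?_⟩
  have h := DFunLike.congr_fun (congrArg Units.val hc) v
  rw [scalarU_apply, pow_two, Units.val_mul, Module.End.mul_apply] at h
  exact h.symm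

/-- A signed lift: the square is `1` or `-1`. -/
theorem exists_signed (hG : LinSetup G) (hr : S.r = 2) (a : ↥S.M) :
    ∃ b : ↥S.M, (QuotientGroup.mk b : S.N) = QuotientGroup.mk a ∧
      ((∀ v : V, S.op b (S.op b v) = v) ∨ ∀ v : V, S.op b (S.op b v) = -v) := by
  obtain ⟨b, hb, h4⟩ := S.exists_lift hG a
  obtain ⟨c, hc, hcv⟩ := sq_apply hr b
  refine ⟨b, hb, ?_⟩
  have hrr : S.rr = 4 := if_pos hr
  have h1 : c ^ 2 = 1 := scalarU_injective (V := V) (by
    rw [map_pow, map_one, ← hc, ← pow_mul, ← h4, hrr])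
  have h2 : (c : K) ^ 2 = 1 := by rw [← Units.val_pow_eq_pow_val, h1, Units.val_one]
  rcases sq_eq_one_iff.1 h2 with e | e
  · exact Or.inl fun v => by rw [hcv, e, one_smul]
  · exact Or.inr fun v => by rw [hcv, e, neg_one_smul]

variable (F : S.MFrame)

/-- Classes in `D` have a lift fixing the block pointwise. -/
theorem exists_fix {q : S.N} (hq : q ∈ F.D) :
    ∃ e : ↥S.M, (QuotientGroup.mk e : S.N) = q ∧ ∀ w ∈ F.B0, S.op e w = w := by
  obtain ⟨x, rfl⟩ := QuotientGroup.mk_surjective q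
  obtain ⟨c, hc⟩ := F.scalar x hq
  have hc0 : c ≠ 0 := by
    intro h
    refine F.u_ne (((Module.End.isUnit_iff _).1 (x : (Module.End K V)ˣ).isUnit).1 ?_)
    rw [map_zero]
    exact (hc _ F.u_mem).trans (by rw [h, zero_smul])
  let s : ↥S.M := ⟨scalarU K V (Units.mk0 c hc0)⁻¹, S.scal ⟨_, rfl⟩⟩
  refine ⟨x * s, S.mk_mul_scalar x _, fun w hw => ?_⟩
  rw [S.op_mul, Module.End.mul_apply, scalar_apply (x := s) rfl, map_smul, hc w hw, smul_smul,
    Units.val_inv_eq_inv_val, Units.val_mk0, inv_mul_cancel₀ hc0, one_smul]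

/-- Outside `D`, elements preserving the block square to minus one. -/
theorem mem_D_of_sq (hr : S.r = 2) {x : ↥S.M}
    (hx : (QuotientGroup.mk x : S.N) ∈ S.pairing.perp F.D) (h : ∀ v : V, S.op x (S.op x v) = v) :
    (QuotientGroup.mk x : S.N) ∈ F.D := by
  have hxr : (x : (Module.End K V)ˣ) ^ S.r = 1 := by
    rw [hr, pow_two]; exact Units.ext (LinearMap.ext h)
  obtain ⟨w, hw, hw0, hc⟩ := S.exists_eigen hxr F.B0 (F.inv x hx)
    (Submodule.ne_bot_iff _ |>.2 ⟨F.u, F.u_mem, F.u_ne⟩)
  exact F.fpf x hx w hw hw0 hc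

theorem β_D_perp {x y : ↥S.M} (hx : (QuotientGroup.mk x : S.N) ∈ F.D)
    (hy : (QuotientGroup.mk y : S.N) ∈ S.pairing.perp F.D) : S.β x y = 1 :=
  S.pairing.symm_eq_one (x := (QuotientGroup.mk y : S.N)) (y := QuotientGroup.mk x) (hy _ hx)

theorem cls_eq_of_mk {x y : ↥S.M} (h : (QuotientGroup.mk x : S.N) = QuotientGroup.mk y) :
    F.cls x = F.cls y := congrArg QuotientGroup.mk h

theorem cls_mul_perp {x y : ↥S.M} (hy : (QuotientGroup.mk y : S.N) ∈ S.pairing.perp F.D) :
    F.cls (x * y) = F.cls x := by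
  rw [F.cls_mul, F.cls_eq_one.2 hy, mul_one]

/-- Characters of the block classes come from `D`. -/
theorem exists_dual (ψ : F.U →* Kˣ) :
    ∃ e : ↥S.M, (QuotientGroup.mk e : S.N) ∈ F.D ∧ (∀ w ∈ F.B0, S.op e w = w) ∧
      ∀ x : ↥S.M, S.β e x = ψ (F.cls x) := by
  classical
  let θ : ↥F.D → (F.U →* Kˣ) := fun d => QuotientGroup.lift (S.pairing.perp F.D)
    (S.pairing.β (d : S.N)) fun q hq => S.pairing.symm_eq_one (hq _ d.2)
  have hθinj : Function.Injective θ := by
    intro d d' h
    refine Subtype.ext (S.pairing.injective (MonoidHom.ext fun q => ?_))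
    exact DFunLike.congr_fun h (QuotientGroup.mk q)
  haveI : Finite F.U := Quotient.finite _
  have hcast : Function.Injective fun χ : F.U →* Kˣ => (Units.coeHom K).comp χ := fun χ χ' h =>
    MonoidHom.ext fun q => Units.val_injective (DFunLike.congr_fun h q)
  haveI := H35.OddBase.finite_monoidHom F.U K
  haveI : Finite (F.U →* Kˣ) := Finite.of_injective _ hcast
  have hcard : Nat.card (F.U →* Kˣ) ≤ Nat.card ↥F.D :=
    (Nat.card_le_card_of_injective _ hcast).trans ((H35.OddBase.card_monoidHom_le F.U K).trans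
      (S.pairing.index_perp_le (ι := Units.coeHom K) Units.val_injective F.D))
  obtain ⟨d, hd⟩ := ((Nat.bijective_iff_injective_and_card θ).2
    ⟨hθinj, le_antisymm (Nat.card_le_card_of_injective _ hθinj) hcard⟩).2 ψ
  obtain ⟨e, he, hfix⟩ := exists_fix F d.2
  refine ⟨e, he ▸ d.2, hfix, fun x => ?_⟩
  rw [← hd]
  show S.β e x = S.pairing.β (d : S.N) (QuotientGroup.mk x)
  rw [← he, Sect.pairing_mk]

/-- Coordinates on the block classes, dual elements, and adapted representatives. -/
theorem exists_XZ (hG : LinSetup G) (hr : S.r = 2) (A : Set ↥S.M)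
    (hA : ∀ y ∈ A, (QuotientGroup.mk y : S.N) ∈ S.pairing.perp F.D)
    (hrep : ∀ q : F.U, ∃ x : ↥S.M, F.cls x = q ∧ ∀ y ∈ A, S.β x y = 1) :
    ∃ (m : ℕ) (X Z : Fin m → ↥S.M), Nat.card F.U = 2 ^ m ∧
      (∀ i j, S.β (X i) (X j) = 1) ∧ (∀ i j, S.β (Z i) (X j) = if i = j then -1 else 1) ∧
      (∀ i, ∀ v : V, S.op (X i) (S.op (X i) v) = v) ∧
      (∀ i, (QuotientGroup.mk (Z i) : S.N) ∈ F.D) ∧ (∀ i, ∀ w ∈ F.B0, S.op (Z i) w = w) ∧
      (∀ i, ∀ y ∈ A, S.β (X i) y = 1) ∧
      (∀ x : ↥S.M, (∀ i, S.β x (Z i) = 1) → (QuotientGroup.mk x : S.N) ∈ S.pairing.perp F.D) ∧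
      (∀ x : ↥S.M, (QuotientGroup.mk x : S.N) ∈ F.D → (∀ i, S.β x (X i) = 1) →
        (QuotientGroup.mk x : S.N) = 1) := by
  classical
  have hne := neg_one_ne_one hr
  have h2 : ∀ q : Additive F.U, 2 • q = 0 := fun q => by
    obtain ⟨n, hn⟩ := QuotientGroup.mk_surjective (Additive.toMul q)
    show (Additive.toMul q) ^ 2 = 1
    rw [← hn, ← QuotientGroup.mk_pow, ← hr, S.pow_r, QuotientGroup.mk_one]
  haveI : Fact (Nat.Prime 2) := ⟨Nat.prime_two⟩
  haveI : Finite F.U := Quotient.finite _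
  haveI : Finite (Additive F.U) := Finite.of_equiv F.U Additive.ofMul
  letI : Module (ZMod 2) (Additive F.U) := AddCommGroup.zmodModule h2
  haveI : Module.Finite (ZMod 2) (Additive F.U) := Module.Finite.of_finite
  set m := finrank (ZMod 2) (Additive F.U) with hm
  let bas := Module.finBasis (ZMod 2) (Additive F.U)
  have hcard : Nat.card F.U = 2 ^ m := by
    rw [← Nat.card_congr (Additive.toMul (α := F.U)), Module.natCard_eq_pow_finrank (K := ZMod 2),
      Nat.card_zmod]
  -- characters from values on the coordinates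
  have hchar : ∀ v : Fin m → Kˣ, (∀ l, v l * v l = 1) → ∃ ψ : F.U →* Kˣ, ∀ q : F.U,
      ψ q = ∏ l, (if bas.repr (Additive.ofMul q) l = 0 then 1 else v l) := by
    intro v hv
    refine ⟨⟨⟨fun q => ∏ l, (if bas.repr (Additive.ofMul q) l = 0 then 1 else v l), ?_⟩, ?_⟩, fun q => rfl⟩
    · simp [ofMul_one]
    · intro q q'
      show (∏ l, (if bas.repr (Additive.ofMul (q * q')) l = 0 then 1 else v l)) =
        (∏ l, (if bas.repr (Additive.ofMul q) l = 0 then 1 else v l)) *
          ∏ l, (if bas.repr (Additive.ofMul q') l = 0 then 1 else v l)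
      rw [← Finset.prod_mul_distrib]
      refine Finset.prod_congr rfl fun l _ => ?_
      rw [ofMul_mul, map_add, Finsupp.add_apply]
      generalize bas.repr (Additive.ofMul q) l = s, bas.repr (Additive.ofMul q') l = t
      rcases zmod_two_cases s with rfl | rfl <;> rcases zmod_two_cases t with rfl | rfl <;>
        simp [hv l, zmod_two_add]
  have hval : ∀ (v : Fin m → Kˣ) (i : Fin m),
      (∏ l, (if bas.repr (bas i) l = 0 then 1 else v l)) = v i := by
    intro v i
    rw [Finset.prod_eq_single i]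
    · simp
    · intro l _ hl; simp [Ne.symm hl]
    · simp
  -- dual elements
  let δv : Fin m → Fin m → Kˣ := fun i l => if i = l then -1 else 1
  choose χ hχ using fun i => hchar (δv i) fun l => by simp only [δv]; split_ifs <;> simp
  choose Z hZD hZfix hZβ using fun i => exists_dual F (χ i)
  choose X0 hX0 hX0A using fun i => hrep (Additive.toMul (bas i))
  have hZX : ∀ i (x : ↥S.M) j, F.cls x = Additive.toMul (bas j) →
      S.β (Z i) x = if i = j then -1 else 1 := by
    intro i x j hx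
    rw [hZβ, hx, hχ, ofMul_toMul, hval]
  -- make the representatives commute
  let cv : Fin m → Fin m → Kˣ := fun i l => if l < i then S.β (X0 i) (X0 l) else 1
  choose ψ hψ using fun i => hchar (cv i) fun l => by
    simp only [cv]; split_ifs
    · exact β_sq hr _ _
    · exact one_mul 1
  choose d hdD _ hdβ using fun i => exists_dual F (ψ i)
  have hdP : ∀ i, (QuotientGroup.mk (d i) : S.N) ∈ S.pairing.perp F.D := fun i => F.D_le_perp (hdD i)
  let X1 : Fin m → ↥S.M := fun i => X0 i * d i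
  have hX1 : ∀ i, F.cls (X1 i) = Additive.toMul (bas i) := fun i => by
    rw [cls_mul_perp F (hdP i), hX0]
  have hdX : ∀ i j, S.β (d i) (X0 j) = cv i j := fun i j => by
    rw [hdβ, hX0, hψ, ofMul_toMul, hval]
  have hX11 : ∀ i j, S.β (X1 i) (X1 j) = 1 := by
    intro i j
    simp only [X1]
    rw [S.β_mul_left, S.β_mul_right, S.β_mul_right, β_D_perp F (hdD i) (hdP j), β_comm hr (d j) (X0 i),
      hdX, hdX, mul_one]
    simp only [cv]
    rcases lt_trichotomy i j with h | h | h
    · rw [if_pos h, if_neg (not_lt.2 h.le), mul_one, β_comm hr (X0 i) (X0 j), β_sq hr]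
    · subst h; rw [if_neg (lt_irrefl i), mul_one, mul_one, S.β_self]
    · rw [if_neg (not_lt.2 h.le), if_pos h, mul_one, β_sq hr]
  have hX1A : ∀ i, ∀ y ∈ A, S.β (X1 i) y = 1 := fun i y hy => by
    simp only [X1]
    rw [S.β_mul_left, hX0A i y hy, β_D_perp F (hdD i) (hA y hy), one_mul]
  -- make the squares trivial
  have hfix : ∀ i, ∃ x : ↥S.M, (∀ v : V, S.op x (S.op x v) = v) ∧
      ((QuotientGroup.mk x : S.N) = QuotientGroup.mk (X1 i) ∨
        (QuotientGroup.mk x : S.N) = QuotientGroup.mk (X1 i * Z i)) := by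
    intro i
    obtain ⟨y, hy, h | h⟩ := exists_signed hG hr (X1 i)
    · exact ⟨y, h, Or.inl hy⟩
    refine ⟨y * Z i, fun v => ?_, Or.inr (by rw [QuotientGroup.mk_mul, hy, ← QuotientGroup.mk_mul])⟩
    have hβ : S.β (Z i) y = -1 := by
      rw [hZX i y i ((cls_eq_of_mk F hy).trans (hX1 i)), if_pos rfl]
    obtain ⟨c, -, hc⟩ := sq_apply hr (Z i)
    have hc1 : (c : K) = 1 := by
      have := hc F.u
      rw [hZfix i _ F.u_mem, hZfix i _ F.u_mem] at this
      exact smul_left_injective K F.u_ne (this.symm.trans (one_smul K F.u).symm)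
    simp only [S.op_mul, Module.End.mul_apply]
    rw [apply_swap (Z i) y, hβ, hc, hc1, one_smul, map_smul, h, Units.val_neg, Units.val_one,
      neg_one_smul, neg_neg]
  choose X hXsq hXmk using hfix
  have hZZ : ∀ i j, S.β (Z i) (Z j) = 1 := fun i j => β_D_perp F (hZD i) (F.D_le_perp (hZD j))
  have hZX1 : ∀ i j, S.β (Z i) (X1 j) = if i = j then -1 else 1 := fun i j => hZX i _ j (hX1 j)
  have hβl : ∀ i (y : ↥S.M), S.β (X i) y = S.β (X1 i) y ∨ S.β (X i) y = S.β (X1 i) y * S.β (Z i) y := by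
    intro i y
    rcases hXmk i with h | h
    · exact Or.inl (by rw [← Sect.pairing_mk, h, Sect.pairing_mk])
    · exact Or.inr (by rw [← Sect.pairing_mk, h, Sect.pairing_mk, S.β_mul_left])
  have hXcls : ∀ i, F.cls (X i) = Additive.toMul (bas i) := fun i => by
    rcases hXmk i with h | h
    · rw [cls_eq_of_mk F h, hX1]
    · rw [cls_eq_of_mk F h, cls_mul_perp F (F.D_le_perp (hZD i)), hX1]
  refine ⟨m, X, Z, hcard, fun i j => ?_, fun i j => hZX i _ j (hXcls j), hXsq, hZD, hZfix,
    fun i y hy => ?_, fun x hx => ?_, fun x hxD hx => ?_⟩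
  · by_cases hij : i = j
    · rw [hij, S.β_self]
    have h1 : S.β (X1 i) (X j) = 1 := by
      rw [β_comm hr]
      rcases hβl j (X1 i) with h | h <;> rw [h]
      · exact hX11 _ _
      · rw [hX11, hZX1, if_neg (Ne.symm hij), one_mul]
    have h2 : S.β (Z i) (X j) = 1 := by rw [hZX i _ j (hXcls j), if_neg hij]
    rcases hβl i (X j) with h | h <;> rw [h]
    · exact h1
    · rw [h1, h2, one_mul]
  · rcases hβl i y with h | h <;> rw [h]
    · exact hX1A i y hy
    · rw [hX1A i y hy, β_D_perp F (hZD i) (hA y hy), one_mul]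
  · rw [← F.cls_eq_one]
    have h0 : ∀ l, bas.repr (Additive.ofMul (F.cls x)) l = 0 := by
      intro i
      by_contra hcon
      have h := hx i
      rw [β_comm hr, hZβ, hχ, Finset.prod_eq_single i] at h
      · rw [if_neg hcon] at h
        simp only [δv, if_true] at h
        exact hne h
      · intro l _ hl; simp [δv, Ne.symm hl]
      · simp
    have : Additive.ofMul (F.cls x) = 0 := bas.repr.map_eq_zero_iff.1 (Finsupp.ext h0)
    exact this
  · refine S.pairing.nondeg _ fun q => ?_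
    let θ : F.U →* Kˣ := QuotientGroup.lift (S.pairing.perp F.D)
      (S.pairing.β (QuotientGroup.mk x)) fun q hq => S.pairing.symm_eq_one (hq _ hxD)
    show θ (QuotientGroup.mk q) = 1
    suffices hθ : MonoidHom.toAdditive θ = 0 from
      DFunLike.congr_fun hθ (Additive.ofMul (QuotientGroup.mk q : F.U))
    have : ∀ i, θ (Additive.toMul (bas i)) = 1 := fun i => by
      rw [← hXcls]; exact hx i
    refine AddMonoidHom.ext fun q' => ?_
    rw [← bas.sum_repr q', map_sum]
    refine Finset.sum_eq_zero fun i _ => ?_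
    rcases zmod_two_cases (bas.repr q' i) with h | h <;> rw [h]
    · rw [zero_smul, map_zero]
    · rw [one_smul]; exact congrArg Additive.ofMul (this i)

end H21.Base2.Link
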