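import Cfsg.Agent.H21.Base2.LinkModel

/-!
Moving a group with adapted generators to the model.
-/

set_option autoImplicit false
set_option linter.style.haveILetI false
set_option linter.unusedSectionVars false

namespace H21.Base2.Link

open Module H27.Base2

variable {K V : Type} [Field K] [Finite K] [AddCommGroup V] [Module K V] [Finite V]

/-- Transport of the invertible maps along an equivalence. -/
def conjU {W : Type} [AddCommGroup W] [Module K W] (Θ : V ≃ₗ[K] W) :
    (Module.End K V)ˣ →* (Module.End K W)ˣ :=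
  Units.map
    { toFun := fun f => (Θ : V →ₗ[K] W) ∘ₗ f ∘ₗ (Θ.symm : W →ₗ[K] V)
      map_one' := LinearMap.ext fun w => by simp
      map_mul' := fun f g => LinearMap.ext fun w => by simp }

theorem conjU_apply {W : Type} [AddCommGroup W] [Module K W] (Θ : V ≃ₗ[K] W)
    (g : (Module.End K V)ˣ) (w : W) :
    (conjU Θ g : Module.End K W) w = Θ ((g : Module.End K V) (Θ.symm w)) := rfl

theorem conjU_injective {W : Type} [AddCommGroup W] [Module K W] (Θ : V ≃ₗ[K] W) :
    Function.Injective (conjU Θ) := fun g h e => Units.ext (LinearMap.ext fun v => Θ.injective (by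
  have h' := DFunLike.congr_fun (congrArg Units.val e) (Θ v)
  rwa [conjU_apply, conjU_apply, Θ.symm_apply_apply] at h'))

theorem conjU_scalar {W : Type} [AddCommGroup W] [Module K W] (Θ : V ≃ₗ[K] W) (c : Kˣ) :
    conjU Θ (scalarU K V c) = scalarU K W c :=
  Units.ext (LinearMap.ext fun w => by
    rw [conjU_apply, scalarU_apply, map_smul, Θ.apply_symm_apply, scalarU_apply])

/-- A pair in the transported group gives a pair. -/
theorem pairFor_of_image {W : Type} [AddCommGroup W] [Module K W] (Θ : V ≃ₗ[K] W)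
    {G : Subgroup (Module.End K V)ˣ} {Γ : Subgroup (Module.End K W)ˣ}
    (hmem : ∀ g ∈ G, conjU Θ g ∈ Γ) (h : PairFor Γ) : PairFor G := by
  obtain ⟨v, w, hvw⟩ := h
  refine ⟨Θ.symm v, Θ.symm w, fun g hg hv hw => conjU_injective Θ ?_⟩
  rw [map_one]
  exact hvw _ (hmem g hg) (by rw [conjU_apply, hv, Θ.apply_symm_apply])
    (by rw [conjU_apply, hw, Θ.apply_symm_apply])

variable [Nontrivial V] {G : Subgroup (Module.End K V)ˣ} {S : Sect G}

theorem exists_bits {n : ℕ} (ε : Fin n → Bool) :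
    ∃ m : Fin (2 ^ n), ∀ j : Fin n, Nat.testBit (m : ℕ) j = ε j := by
  refine ⟨⟨Nat.ofBits ε, Nat.ofBits_lt_two_pow _⟩, fun j => ?_⟩
  exact Nat.testBit_ofBits_lt ε j j.2

namespace Sys

variable {F : S.MFrame} {tw : Bool} {k : ℕ} (Y : Sys F tw k)

/-- The element matching a model generator. -/
def lift (j : Fin (2 * k)) : ↥S.M :=
  if (j : ℕ) % 2 = 0 then Y.x ⟨(j : ℕ) / 2, by omega⟩ else Y.z ⟨(j : ℕ) / 2, by omega⟩

include Y in
/-- The model group. -/
theorem modelSetup (hG : LinSetup G) (hr : S.r = 2) [Fintype F.U]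
    (htop : LinearMap.range (F.Ψ hG) = ⊤) :
    ∃ Θ : V ≃ₗ[K] (Fin (2 ^ k) → K),
      ModelSetup (twisted := tw) (G.map (conjU Θ)) := by
  classical
  let e := LinearEquiv.ofBijective Y.Φ (Y.Φ_bijective hG htop)
  refine ⟨e.symm, ?_⟩
  set f := conjU (K := K) e.symm with hf
  have hgen : ∀ j, (f (Y.lift j : (Module.End K V)ˣ) : Module.End K (Fin (2 ^ k) → K)) =
      gen K tw k j := by
    intro j
    refine LinearMap.ext fun v => ?_
    rw [hf, conjU_apply, LinearEquiv.symm_symm, LinearEquiv.symm_apply_eq]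
    show S.op (Y.lift j) (Y.Φ v) = Y.Φ (gen K tw k j v)
    unfold lift
    split_ifs with h
    · have hj : j = ⟨2 * ((⟨(j : ℕ) / 2, by omega⟩ : Fin k) : ℕ), by simp only; omega⟩ :=
        Fin.ext (by show (j : ℕ) = 2 * ((j : ℕ) / 2); omega)
      conv_rhs => rw [hj]
      exact (Y.Φ_gen_x _ v).symm
    · have hj : j = ⟨2 * ((⟨(j : ℕ) / 2, by omega⟩ : Fin k) : ℕ) + 1, by simp only; omega⟩ :=
        Fin.ext (by show (j : ℕ) = 2 * ((j : ℕ) / 2) + 1; omega)
      conv_rhs => rw [hj]
      exact (Y.Φ_gen_z _ v).symm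
  -- every class is a word
  let cl : Fin (2 * k) → S.N := fun j => QuotientGroup.mk (Y.lift j)
  let wd : (Fin (2 * k) → Bool) → S.N := fun ε => ∏ j, (if ε j then cl j else 1)
  have hsq : ∀ q : S.N, q * q = 1 := fun q => by rw [← pow_two, ← hr, S.pow_r]
  let W : Subgroup S.N :=
    { carrier := Set.range wd
      one_mem' := ⟨fun _ => false, by simp [wd]⟩
      mul_mem' := by
        rintro _ _ ⟨a, rfl⟩ ⟨b, rfl⟩
        refine ⟨fun j => xor (a j) (b j), ?_⟩
        simp only [wd]
        rw [← Finset.prod_mul_distrib]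
        refine Finset.prod_congr rfl fun j _ => ?_
        rcases Bool.eq_false_or_eq_true (a j) with h | h <;>
          rcases Bool.eq_false_or_eq_true (b j) with h' | h' <;> simp [h, h', hsq]
      inv_mem' := fun {q} hq => by rwa [inv_eq_of_mul_eq_one_right (hsq q)] }
  have hW : W = ⊤ := by
    rw [eq_top_iff, ← Y.gens, Subgroup.closure_le]
    have hj : ∀ j, cl j ∈ W := fun j => ⟨fun l => decide (l = j), by simp [wd]⟩
    rintro _ (⟨i, rfl⟩ | ⟨i, rfl⟩)
    · have h := hj ⟨2 * i, by omega⟩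
      simp only [cl, lift, Nat.mul_mod_right, if_true,
        Nat.mul_div_cancel_left _ two_pos] at h
      exact h
    · have h := hj ⟨2 * i + 1, by omega⟩
      have e1 : ¬ (2 * (i : ℕ) + 1) % 2 = 0 := by omega
      have e2 : (2 * (i : ℕ) + 1) / 2 = i := by omega
      simp only [cl, lift, if_neg e1, e2] at h
      exact h
  have hword : ∀ m : ↥S.M, ∃ (n : Fin (2 ^ (2 * k))) (c : K),
      (f (m : (Module.End K V)ˣ) : Module.End K (Fin (2 ^ k) → K)) = c • word K tw k n := by
    intro m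
    obtain ⟨ε, hε⟩ : (QuotientGroup.mk m : S.N) ∈ W := hW ▸ Subgroup.mem_top _
    obtain ⟨n, hn⟩ := exists_bits ε
    set L : ↥S.M := ((List.finRange (2 * k)).map fun j => if ε j then Y.lift j else 1).prod with hL
    have hmkL : (QuotientGroup.mk L : S.N) = QuotientGroup.mk m := by
      rw [← hε, hL]
      show QuotientGroup.mk' S.Z _ = _
      rw [map_list_prod, List.map_map, ← Fin.prod_univ_def]
      refine Finset.prod_congr rfl fun j _ => ?_
      simp only [Function.comp_apply, cl]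
      split_ifs <;> rfl
    obtain ⟨c, hc⟩ := S.mem_Z.1 (QuotientGroup.eq.1 hmkL)
    refine ⟨n, (c : K), ?_⟩
    have hm : (m : (Module.End K V)ˣ) = (L : (Module.End K V)ˣ) * scalarU K V c := by
      rw [hc, Subgroup.coe_mul, Subgroup.coe_inv, mul_inv_cancel_left]
    have hLw : (f (L : (Module.End K V)ˣ) : Module.End K (Fin (2 ^ k) → K)) = word K tw k n := by
      rw [hL, word]
      show ((Units.coeHom _).comp (f.comp S.M.subtype)) _ = _
      rw [map_list_prod, List.map_map]
      refine congrArg List.prod (List.map_congr_left fun j _ => ?_)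
      simp only [Function.comp_apply, MonoidHom.comp_apply, Units.coeHom_apply, Subgroup.coe_subtype, hn]
      split_ifs
      · exact hgen j
      · simp
    rw [hm, map_mul, Units.val_mul, hLw, hf, conjU_scalar]
    refine LinearMap.ext fun v => ?_
    rw [Module.End.mul_apply, scalarU_apply, map_smul, LinearMap.smul_apply]
  -- the Pauli group
  have hle : pauli K tw k ≤ S.M.map f := by
    rw [pauli, Subgroup.closure_le]
    rintro g (⟨c, rfl⟩ | ⟨j, hj⟩)
    · exact ⟨_, S.scal ⟨c, rfl⟩, conjU_scalar _ c⟩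
    · exact ⟨_, (Y.lift j).2, Units.ext ((hgen j).trans hj.symm)⟩
  have hscal : ∀ c : Kˣ, f (scalarU K V c) ∈ pauli K tw k := fun c =>
    Subgroup.subset_closure (Or.inl ⟨c, (conjU_scalar _ c).symm⟩)
  have hge : S.M.map f ≤ pauli K tw k := by
    let P : Subgroup ↥S.M := (pauli K tw k).comap (f.comp S.M.subtype)
    have h1 : P.map (QuotientGroup.mk' S.Z) = ⊤ := by
      rw [eq_top_iff, ← hW]
      rintro _ ⟨ε, rfl⟩
      refine Subgroup.prod_mem _ fun j _ => ?_
      split_ifs
      · exact ⟨Y.lift j, Subgroup.subset_closure (Or.inr ⟨j, hgen j⟩), rfl⟩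
      · exact Subgroup.one_mem _
    rintro _ ⟨m, hm, rfl⟩
    obtain ⟨y, hy, hym⟩ := h1.ge (Subgroup.mem_top (QuotientGroup.mk' S.Z ⟨m, hm⟩))
    obtain ⟨c, hc⟩ := S.mem_Z.1 (QuotientGroup.eq.1 hym)
    have : m = (y : (Module.End K V)ˣ) * scalarU K V c := by
      rw [hc, Subgroup.coe_mul, Subgroup.coe_inv, mul_inv_cancel_left]
    rw [this, map_mul]
    exact Subgroup.mul_mem _ hy (hscal c)
  have hPauli : pauli K tw k = S.M.map f := le_antisymm hle hge
  refine ⟨?_, ?_, ?_, ?_, ?_, ?_⟩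
  · haveI := hG.solvable
    exact Group.isSolvable_of_surjective (f := f.subgroupMap G) (f.subgroupMap_surjective G)
  · rw [Subgroup.card_map_of_injective (conjU_injective _)]
    exact hG.coprime
  · rw [hPauli]; exact Subgroup.map_mono S.le
  · rintro _ ⟨g, hg, rfl⟩ a ha
    rw [hPauli] at ha ⊢
    obtain ⟨m, hm, rfl⟩ := ha
    exact ⟨g * m * g⁻¹, S.norm g hg m hm, by rw [map_mul, map_mul, map_inv]⟩
  · rintro _ ⟨g, hg, rfl⟩ j
    obtain ⟨n, c, h⟩ := hword ⟨g * (Y.lift j : (Module.End K V)ˣ) * g⁻¹, S.norm g hg _ (Y.lift j).2⟩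
    refine ⟨n, c, ?_⟩
    rw [← hgen j, ← smul_mul_assoc, ← h, ← Units.val_mul, ← Units.val_mul, ← map_mul, ← map_mul,
      inv_mul_cancel_right]
  · intro W hscalW hWle hWn
    have hcomap : W.comap f ≤ S.M := fun m hm => by
      obtain ⟨m', hm', e'⟩ := (hPauli ▸ hWle hm : f m ∈ S.M.map f)
      exact conjU_injective _ e' ▸ hm'
    have hZW : (scalarU K V).range ≤ W.comap f := by
      rintro _ ⟨c, rfl⟩
      exact hscalW ⟨c, (conjU_scalar _ c).symm⟩
    rcases S.minimal (W.comap f) hZW hcomap (fun g hg a ha => by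
        show f (g * a * g⁻¹) ∈ W
        rw [map_mul, map_mul, map_inv]
        exact hWn _ ⟨g, hg, rfl⟩ _ ha) with h | h
    · left
      intro a ha
      obtain ⟨m, hm, rfl⟩ := (hPauli ▸ hWle ha : a ∈ S.M.map f)
      obtain ⟨c, rfl⟩ := h.le (show m ∈ W.comap f from ha)
      exact ⟨c, (conjU_scalar _ c).symm⟩
    · right
      refine le_antisymm hWle ?_
      rw [hPauli]
      rintro _ ⟨m, hm, rfl⟩
      exact h.ge hm

end Sys

end H21.Base2.Link
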