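import Cfsg.Agent.H35.OddBase.Basic
import Cfsg.Agent.H31.InvariantMax

/-!
Coprime actions on abelian groups: complete reducibility and the passage to elementary modules.
-/

set_option autoImplicit false
set_option linter.style.haveILetI false
set_option linter.unusedSectionVars false

namespace H21.Base2

open H35.OddBase (IsCR IsIrr HasPair)

variable {G V : Type*} [Group G] [Finite G] [AddCommGroup V] [Finite V] [DistribMulAction G V]

/-- A module killed by a number prime to the group order has order prime to it. -/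
theorem coprime_card {n : ℕ} (hcop : Nat.Coprime (Nat.card G) n) (h : ∀ v : V, n • v = 0) :
    Nat.Coprime (Nat.card G) (Nat.card V) := by
  refine Nat.coprime_of_dvd fun q hq h1 h2 => ?_
  haveI : Fact q.Prime := ⟨hq⟩
  obtain ⟨v, hv⟩ := exists_prime_addOrderOf_dvd_card' q h2
  have h3 : q ∣ n := hv ▸ addOrderOf_dvd_of_nsmul_eq_zero (h v)
  exact hq.ne_one (Nat.eq_one_of_dvd_coprimes hcop h1 h3)

/-- The same for a subgroup of the acting group. -/
theorem coprime_subgroup {G : Type*} [Group G] {n : ℕ} (hcop : Nat.Coprime (Nat.card G) n)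
    (H : Subgroup G) : Nat.Coprime (Nat.card ↥H) n :=
  hcop.coprime_dvd_left (Subgroup.card_subgroup_dvd_card H)

/-- Coprime actions on elementary abelian groups are completely reducible. -/
theorem isCR_of_coprime {p : ℕ} (hp : p.Prime) (hexp : ∀ v : V, p • v = 0)
    (hcop : Nat.Coprime (Nat.card G) (Nat.card V)) : IsCR G V := by
  intro U hU
  by_cases hsub : Subsingleton V
  · exact ⟨⊤, fun _ _ _ => AddSubgroup.mem_top _, Subsingleton.elim _ _, Subsingleton.elim _ _⟩
  rw [not_subsingleton_iff_nontrivial] at hsub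
  haveI : Fact p.Prime := ⟨hp⟩
  have hpV : p ∣ Nat.card V := by
    obtain ⟨v, hv⟩ := exists_ne (0 : V)
    exact (addOrderOf_eq_prime (hexp v) hv) ▸ addOrderOf_dvd_natCard v
  have hnd : ¬ p ∣ Nat.card G := fun h => hp.ne_one (Nat.eq_one_of_dvd_coprimes hcop h hpV)
  let act : G →* Monoid.End (Multiplicative V) :=
    { toFun := fun g =>
        { toFun := fun v => Multiplicative.ofAdd (g • Multiplicative.toAdd v)
          map_one' := congrArg Multiplicative.ofAdd (smul_zero g : g • (0 : V) = 0)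
          map_mul' := fun v w => smul_add g v.toAdd w.toAdd }
      map_one' := MonoidHom.ext fun v => one_smul G v.toAdd
      map_mul' := fun g h => MonoidHom.ext fun v => mul_smul g h v.toAdd }
  obtain ⟨C, hC, hb, ht⟩ := H31.exists_invariant_complement act hp
    (fun v => (hexp v.toAdd : p • v.toAdd = 0)) hnd (AddSubgroup.toSubgroup U)
    (fun a w hw => hU a w.toAdd hw)
  refine ⟨Subgroup.toAddSubgroup' C, fun a c hc => hC a (Multiplicative.ofAdd c) hc, ?_, ?_⟩
  · refine (AddSubgroup.eq_bot_iff_forall _).2 fun x hx => ?_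
    have h : Multiplicative.ofAdd x ∈ (⊥ : Subgroup (Multiplicative V)) := hb ▸ ⟨hx.2, hx.1⟩
    exact Subgroup.mem_bot.1 h
  · refine (AddSubgroup.eq_top_iff' _).2 fun x => ?_
    obtain ⟨c, hc, w, hw, hcw⟩ := Subgroup.mem_sup.1 (ht.symm.le (Subgroup.mem_top (Multiplicative.ofAdd x)))
    exact AddSubgroup.mem_sup.2 ⟨w.toAdd, hw, c.toAdd, hc, (add_comm _ _).trans hcw⟩

/-- The elements killed by `p`. -/
def kerMul (V : Type*) [AddCommGroup V] (p : ℕ) : AddSubgroup V := (nsmulAddMonoidHom p : V →+ V).ker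

theorem mem_kerMul {p : ℕ} {v : V} : v ∈ kerMul V p ↔ p • v = 0 := Iff.rfl

/-- An element fixing all vectors of prime order acts trivially. -/
theorem trivial_of_prime_order (hcop : Nat.Coprime (Nat.card G) (Nat.card V)) {g : G}
    (h : ∀ p : ℕ, p.Prime → ∀ v : V, p • v = 0 → g • v = v) (v : V) : g • v = v := by
  suffices hs : ∀ n : ℕ, ∀ v : V, addOrderOf v = n → g • v = v from hs _ v rfl
  intro n
  induction n using Nat.strong_induction_on with
  | _ n ih =>
    intro v hv
    by_cases h1 : n = 1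
    · rw [AddMonoid.addOrderOf_eq_one_iff.1 (hv.trans h1), smul_zero]
    have hn0 : 0 < n := hv ▸ addOrderOf_pos v
    obtain ⟨p, hp, hpn⟩ := Nat.exists_prime_and_dvd h1
    have hlt : addOrderOf (p • v) < n := by
      rw [addOrderOf_nsmul_of_dvd hp.ne_zero (hv ▸ hpn), hv]
      exact Nat.div_lt_self hn0 hp.one_lt
    have e : g • (p • v) = p • v := ih _ hlt _ rfl
    set d := g • v - v with hd
    have hpd : p • d = 0 := by
      rw [hd, smul_sub, smul_comm p g v, e, sub_self]
    have hgd : g • d = d := h p hp d hpd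
    have hgv : g • v = v + d := by rw [hd]; abel
    have hpow : ∀ k : ℕ, g ^ k • v = v + k • d := by
      intro k
      induction k with
      | zero => rw [pow_zero, one_smul, zero_smul, add_zero]
      | succ k ihk =>
        rw [pow_succ', mul_smul, ihk, smul_add, hgv, ← smul_comm k g d, hgd, succ_nsmul]; abel
    have h0 : orderOf g • d = 0 := by
      have := hpow (orderOf g)
      rw [pow_orderOf_eq_one, one_smul] at this
      exact add_eq_left.1 this.symm
    have h2 : addOrderOf d ∣ Nat.card G :=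
      (addOrderOf_dvd_of_nsmul_eq_zero h0).trans (orderOf_dvd_natCard g)
    have h3 : d = 0 := AddMonoid.addOrderOf_eq_one_iff.1
      (Nat.eq_one_of_dvd_coprimes hcop h2 (addOrderOf_dvd_natCard d))
    rw [hgv, h3, add_zero]

/-- Pairs on the primary socle parts give a pair. -/
theorem hasPair_of_socle (hcop : Nat.Coprime (Nat.card G) (Nat.card V))
    (hpair : ∀ p : ℕ, p.Prime → p ∣ Nat.card V → ∃ a b : V, p • a = 0 ∧ p • b = 0 ∧
      ∀ g : G, g • a = a → g • b = b → ∀ v : V, p • v = 0 → g • v = v) : HasPair G V := by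
  classical
  choose a b ha hb hab using hpair
  let S := (Nat.card V).primeFactors
  have hS : ∀ q : ↥S, q.1.Prime ∧ q.1 ∣ Nat.card V := fun q =>
    ⟨Nat.prime_of_mem_primeFactors q.2, Nat.dvd_of_mem_primeFactors q.2⟩
  let A : ↥S → V := fun q => a q.1 (hS q).1 (hS q).2
  let B : ↥S → V := fun q => b q.1 (hS q).1 (hS q).2
  have key : ∀ (F : ↥S → V), (∀ q : ↥S, q.1 • F q = 0) → ∀ g : G,
      g • (∑ q, F q) = ∑ q, F q → ∀ q, g • F q = F q := by
    intro F hF g hg q
    set s := ∏ r ∈ Finset.univ.erase q, r.1 with hs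
    have hother : ∀ r ≠ q, s • F r = 0 := by
      intro r hr
      obtain ⟨t, ht⟩ : r.1 ∣ s := Finset.dvd_prod_of_mem _ (Finset.mem_erase.2 ⟨hr, Finset.mem_univ r⟩)
      rw [ht, mul_comm, mul_smul, hF r, smul_zero]
    have hsum : s • ∑ r, F r = s • F q := by
      rw [Finset.smul_sum, Finset.sum_eq_single q (fun r _ hr => hother r hr)
        (fun h => absurd (Finset.mem_univ q) h)]
    have h1 : g • (s • F q) = s • F q := by
      rw [← hsum, ← smul_comm s g, hg]
    have h2 : s • (g • F q - F q) = 0 := by rw [smul_sub, smul_comm s g, h1, sub_self]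
    have h3 : q.1 • (g • F q - F q) = 0 := by rw [smul_sub, smul_comm q.1 g, hF q, smul_zero, sub_zero]
    have hco : Nat.Coprime s q.1 := by
      refine Nat.Coprime.prod_left fun r hr => ?_
      exact (Nat.coprime_primes (hS r).1 (hS q).1).2 fun h => (Finset.mem_erase.1 hr).1 (Subtype.ext h)
    have h4 : addOrderOf (g • F q - F q) = 1 :=
      Nat.eq_one_of_dvd_coprimes hco (addOrderOf_dvd_of_nsmul_eq_zero h2)
        (addOrderOf_dvd_of_nsmul_eq_zero h3)
    exact sub_eq_zero.1 (AddMonoid.addOrderOf_eq_one_iff.1 h4)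
  refine ⟨∑ q, A q, ∑ q, B q, fun g h1 h2 x => trivial_of_prime_order hcop (fun p hp v hv => ?_) x⟩
  by_cases hv0 : v = 0
  · rw [hv0, smul_zero]
  haveI : Fact p.Prime := ⟨hp⟩
  have hpd : p ∣ Nat.card V := addOrderOf_eq_prime hv hv0 ▸ addOrderOf_dvd_natCard v
  have hpS : p ∈ S := Nat.mem_primeFactors.2 ⟨hp, hpd, Nat.card_pos.ne'⟩
  exact hab p hp hpd g (key A (fun q => ha _ _ _) g h1 ⟨p, hpS⟩) (key B (fun q => hb _ _ _) g h2 ⟨p, hpS⟩) v hv

/-- From elementary modules of no larger size to a given module. -/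
theorem hasPair_of_parts (hcop : Nat.Coprime (Nat.card G) (Nat.card V))
    (hpair : ∀ p : ℕ, p.Prime → p ∣ Nat.card V → ∀ U : AddSubgroup V,
      (∀ g : G, ∀ v ∈ U, g • v ∈ U) → U = kerMul V p → ∃ a ∈ U, ∃ b ∈ U,
        ∀ g : G, g • a = a → g • b = b → ∀ v ∈ U, g • v = v) : HasPair G V := by
  refine hasPair_of_socle hcop fun p hp hpd => ?_
  obtain ⟨a, ha, b, hb, h⟩ := hpair p hp hpd (kerMul V p) (fun g v hv => by
    rw [mem_kerMul] at hv ⊢; rw [smul_comm, hv, smul_zero]) rfl
  exact ⟨a, b, ha, hb, h⟩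

end H21.Base2
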