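import Cfsg.Agent.H21.Base3.Generic
import Cfsg.Agent.H21.Base3.Main
import Cfsg.Agent.H21.Base2.Reduce
import Cfsg.Agent.H35.OddBase.Main

/-!
Bases of size two for coprime actions of solvable groups.
-/

set_option autoImplicit false
set_option linter.style.haveILetI false
set_option linter.unusedSectionVars false

namespace H21.Base2

open MulAction
open H35.OddBase (IsCR IsIrr HasPair)
open H21.Base3 (HasBase HasClasses HasCol hasCol_five hasBase_of_decomp hasBase_of_reducible
  exists_prime_exponent)

/-- All coprime solvable actions on modules smaller than `n`. -/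
def PairsBelow (n : ℕ) : Prop :=
  ∀ (H W : Type) [Group H] [Finite H] [AddCommGroup W] [Finite W] [DistribMulAction H W],
    Group.IsSolvable H → Nat.Coprime (Nat.card H) (Nat.card W) → Nat.card W < n → HasPair H W

/-- The primitive step. -/
def PrimStep : Prop :=
  ∀ (G V : Type) [Group G] [Finite G] [AddCommGroup V] [Finite V] [DistribMulAction G V]
    [FaithfulSMul G V] [Group.IsSolvable G],
    Odd (Nat.card V) → Nat.Coprime (Nat.card G) (Nat.card V) → IsIrr G V →
    H34.IsPrim (DistribMulAction.toAddMonoidEnd G V) → PairsBelow (Nat.card V) →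
    (∀ H : Subgroup G, Nat.card ↥H < Nat.card G → HasPair ↥H V) → HasPair G V

/-- From one regular orbit on pairs to `c` of them, in characteristic `p` under coprimality. -/
def PairClasses (c : ℕ) (cond : ℕ → Prop) : Prop :=
  ∀ (G W : Type) [Group G] [Finite G] [AddCommGroup W] [Finite W] [Nontrivial W]
    [DistribMulAction G W] (p : ℕ), p.Prime → cond p → (∀ w : W, p • w = 0) → Group.IsSolvable G →
    Nat.Coprime (Nat.card G) (Nat.card W) → HasPair G W → HasClasses c 2 G W

/-- Three colours suffice for solvable groups of order prime to three. -/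
def ColThree : Prop :=
  ∀ (G Ω : Type) [Group G] [Finite G] [MulAction G Ω] [Finite Ω] [Nonempty Ω],
    Group.IsSolvable G → ¬ 3 ∣ Nat.card G → HasCol 3 G Ω

theorem hasBase_of_hasPair {G V : Type*} [Group G] [AddCommGroup V] [DistribMulAction G V]
    (h : HasPair G V) : HasBase 2 G V := by
  obtain ⟨v, w, hvw⟩ := h
  exact ⟨![v, w], fun g hg => hvw g (hg 0) (hg 1)⟩

theorem hasPair_of_hasBase {G V : Type*} [Group G] [AddCommGroup V] [DistribMulAction G V]
    (h : HasBase 2 G V) : HasPair G V := by
  obtain ⟨t, ht⟩ := h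
  refine ⟨t 0, t 1, fun g h0 h1 => ht g fun i => ?_⟩
  fin_cases i
  · exact h0
  · exact h1

variable (hprimStep : PrimStep) (h5 : PairClasses 5 (fun p => 5 ≤ p))
  (h3 : PairClasses 3 (fun p => p = 3)) (hcol3 : ColThree)

include hprimStep h5 h3 hcol3

/-- The irreducible faithful case in odd characteristic. -/
theorem hasPair_of_irr {G V : Type} [Group G] [Finite G] [AddCommGroup V] [Finite V]
    [DistribMulAction G V] [FaithfulSMul G V] [Group.IsSolvable G] {p : ℕ} (hp : p.Prime)
    (hp2 : p ≠ 2) (hexp : ∀ v : V, p • v = 0) (hcop : Nat.Coprime (Nat.card G) (Nat.card V))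
    (hirr : IsIrr G V) (hIH : PairsBelow (Nat.card V))
    (hsub : ∀ H : Subgroup G, Nat.card ↥H < Nat.card G → HasPair ↥H V) : HasPair G V := by
  haveI := hirr.1
  haveI : Fact p.Prime := ⟨hp⟩
  obtain ⟨v, hv⟩ := exists_ne (0 : V)
  have hpV : p ∣ Nat.card V := addOrderOf_eq_prime (hexp v) hv ▸ addOrderOf_dvd_natCard v
  have hodd : Odd (Nat.card V) := by
    refine Nat.not_even_iff_odd.1 fun h => ?_
    haveI : Fact (Nat.Prime 2) := ⟨Nat.prime_two⟩
    obtain ⟨w, hw⟩ := exists_prime_addOrderOf_dvd_card' 2 (even_iff_two_dvd.1 h)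
    exact hp2 (((Nat.prime_dvd_prime_iff_eq Nat.prime_two hp).1
      (hw ▸ addOrderOf_dvd_of_nsmul_eq_zero (hexp w))).symm)
  by_cases hprim : H34.IsPrim (DistribMulAction.toAddMonoidEnd G V)
  · exact hprimStep G V hodd hcop hirr hprim hIH hsub
  unfold H34.IsPrim at hprim
  push Not at hprim
  obtain ⟨E, hE, hE2⟩ := hprim
  apply hasPair_of_hasBase
  have hpW : ∀ (H : Subgroup G) (W : Type) [AddCommGroup W] [Finite W] [Nontrivial W]
      [DistribMulAction ↥H W], IsIrr ↥H W → (∀ w : W, Nat.card V • w = 0) →
      (∀ w : W, p • w = 0) ∧ Nat.Coprime (Nat.card ↥H) (Nat.card W) := by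
    intro H W _ _ _ _ hW hwV
    refine ⟨fun w => ?_, coprime_card (coprime_subgroup hcop H) hwV⟩
    obtain ⟨q, hq, hqe⟩ := exists_prime_exponent hW
    obtain ⟨k, hk⟩ : ∃ k, Nat.card V = p ^ k := by
      refine ⟨_, Nat.eq_prime_pow_of_unique_prime_dvd Nat.card_pos.ne' fun {r} hr hrV => ?_⟩
      haveI : Fact r.Prime := ⟨hr⟩
      obtain ⟨u, hu⟩ := exists_prime_addOrderOf_dvd_card' r hrV
      exact (Nat.prime_dvd_prime_iff_eq hr hp).1 (hu ▸ addOrderOf_dvd_of_nsmul_eq_zero (hexp u))
    by_cases hw : w = 0
    · rw [hw, smul_zero]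
    haveI : Fact q.Prime := ⟨hq⟩
    have h1 : addOrderOf w = q := addOrderOf_eq_prime (hqe w) hw
    have h2 : q ∣ p ^ k := hk ▸ h1 ▸ addOrderOf_dvd_of_nsmul_eq_zero (hwV w)
    rw [← (Nat.prime_dvd_prime_iff_eq hq hp).1 (hq.dvd_of_dvd_pow h2)]
    exact hqe w
  by_cases hp3 : p = 3
  · refine hasBase_of_decomp (c := 3) hirr E hE hE2 (fun Ω _ _ _ => ?_)
      fun H W _ _ _ _ hW hlt hwV => ?_
    · refine hcol3 G Ω inferInstance fun h => ?_
      exact hp.ne_one (Nat.eq_one_of_dvd_coprimes hcop (hp3 ▸ h) hpV)
    · obtain ⟨he, hc⟩ := hpW H W hW hwV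
      exact h3 ↥H W p hp hp3 he inferInstance hc (hIH ↥H W inferInstance hc hlt)
  · refine hasBase_of_decomp (c := 5) hirr E hE hE2
      (fun Ω _ _ _ => hasCol_five _ G Ω inferInstance rfl) fun H W _ _ _ _ hW hlt hwV => ?_
    obtain ⟨he, hc⟩ := hpW H W hW hwV
    have hp5 : 5 ≤ p := by
      have := hp.two_le
      have h4 : p ≠ 4 := fun h => absurd (h ▸ hp) (by norm_num)
      omega
    exact h5 ↥H W p hp hp5 he inferInstance hc (hIH ↥H W inferInstance hc hlt)

/-- All sizes at once, in the smallest universe. -/
theorem hasPair_aux (n : ℕ) : ∀ (G V : Type) [Group G] [Finite G] [AddCommGroup V] [Finite V]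
    [DistribMulAction G V], Group.IsSolvable G → Nat.Coprime (Nat.card G) (Nat.card V) →
      Nat.card V = n → HasPair G V := by
  induction n using Nat.strong_induction_on with
  | _ n ih =>
    have hbelow : PairsBelow n := fun H W _ _ _ _ _ h1 h2 h3 => ih _ h3 H W h1 h2 rfl
    suffices h : ∀ m : ℕ, ∀ (G V : Type) [Group G] [Finite G] [AddCommGroup V] [Finite V]
        [DistribMulAction G V], Group.IsSolvable G → Nat.Coprime (Nat.card G) (Nat.card V) →
          Nat.card V = n → Nat.card G = m → HasPair G V from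
      fun G V _ _ _ _ _ hs hcop hn => h _ G V hs hcop hn rfl
    intro m
    induction m using Nat.strong_induction_on with
    | _ m ihm =>
      intro G V _ _ _ _ _ hs hcop hn hm
      subst hn hm
      classical
      haveI := hs
      by_cases hexp : ∃ p : ℕ, p.Prime ∧ ∀ v : V, p • v = 0
      swap
      · -- reduce to the socle
        push Not at hexp
        refine hasPair_of_parts hcop fun p hp _ U hU hUp => ?_
        letI : DistribMulAction G ↥U :=
          { smul := fun g x => ⟨g • x.1, hU g x.1 x.2⟩
            one_smul := fun x => Subtype.ext (one_smul G x.1)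
            mul_smul := fun g h x => Subtype.ext (mul_smul g h x.1)
            smul_zero := fun g => Subtype.ext (smul_zero g)
            smul_add := fun g x y => Subtype.ext (smul_add g x.1 y.1) }
        have hlt : Nat.card ↥U < Nat.card V := by
          obtain ⟨x, hx⟩ := hexp p hp
          exact Finite.card_subtype_lt (x := x) fun h => hx (by rw [hUp] at h; exact h)
        obtain ⟨a, b, hab⟩ := hbelow G ↥U hs
          (hcop.coprime_dvd_right (AddSubgroup.card_addSubgroup_dvd_card U)) hlt
        exact ⟨a.1, a.2, b.1, b.2, fun g h1 h2 v hv =>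
          congrArg Subtype.val (hab g (Subtype.ext h1) (Subtype.ext h2) ⟨v, hv⟩)⟩
      obtain ⟨p, hp, hexp⟩ := hexp
      have hcr : IsCR G V := isCR_of_coprime hp hexp hcop
      by_cases hirr : IsIrr G V
      swap
      · exact hasPair_of_hasBase (hasBase_of_reducible hcr hirr fun W _ _ _ _ hlt hwV =>
          hasBase_of_hasPair (hbelow G W hs (coprime_card hcop hwV) hlt))
      haveI := hirr.1
      by_cases hp2 : p = 2
      · refine H35.OddBase.hasPair_of_odd ?_ hcr
        refine Nat.not_even_iff_odd.1 fun h => hp.ne_one ?_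
        obtain ⟨v, hv⟩ := exists_ne (0 : V)
        haveI : Fact p.Prime := ⟨hp⟩
        exact Nat.eq_one_of_dvd_coprimes hcop (hp2 ▸ even_iff_two_dvd.1 h)
          (addOrderOf_eq_prime (hexp v) hv ▸ addOrderOf_dvd_natCard v)
      -- pass to the faithful quotient
      let f : G →* Equiv.Perm V := MulAction.toPermHom G V
      let Q := G ⧸ f.ker
      have hwd : ∀ a b : G, a⁻¹ * b ∈ f.ker → ∀ v : V, a • v = b • v := fun a b h v => by
        have h1 : (a⁻¹ * b) • v = v := DFunLike.congr_fun (MonoidHom.mem_ker.1 h) v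
        rw [mul_smul, inv_smul_eq_iff] at h1
        exact h1.symm
      letI : DistribMulAction Q V :=
        { smul := fun q v => Quotient.liftOn' q (fun g => g • v)
            fun a b h => hwd a b (QuotientGroup.leftRel_apply.1 h) v
          one_smul := fun v => one_smul G v
          mul_smul := fun q r v => by
            induction q using QuotientGroup.induction_on
            induction r using QuotientGroup.induction_on
            exact mul_smul _ _ v
          smul_zero := fun q => by induction q using QuotientGroup.induction_on; exact smul_zero _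
          smul_add := fun q v w => by
            induction q using QuotientGroup.induction_on; exact smul_add _ v w }
      haveI : FaithfulSMul Q V := ⟨fun {a b} h => by
        induction a using QuotientGroup.induction_on
        induction b using QuotientGroup.induction_on
        refine QuotientGroup.eq.2 (MonoidHom.mem_ker.2 (Equiv.ext fun v => ?_))
        show ((_ : G)⁻¹ * _) • v = v
        rw [mul_smul, inv_smul_eq_iff]; exact (h v).symm⟩
      have hirrQ : IsIrr Q V := ⟨hirr.1, fun U hU => hirr.2 U fun g v hv => hU (g : Q) v hv⟩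
      have hQG : Nat.card Q ≤ Nat.card G := Nat.le_of_dvd Nat.card_pos (Subgroup.card_quotient_dvd_card _)
      have hcopQ : Nat.Coprime (Nat.card Q) (Nat.card V) :=
        hcop.coprime_dvd_left (Subgroup.card_quotient_dvd_card _)
      obtain ⟨v, w, hvw⟩ := hasPair_of_irr hprimStep h5 h3 hcol3 hp hp2 hexp hcopQ hirrQ hbelow
        fun H hH => ihm _ (lt_of_lt_of_le hH hQG) ↥H V inferInstance (coprime_subgroup hcopQ H) rfl rfl
      exact ⟨v, w, fun g h1 h2 x => hvw (g : Q) h1 h2 x⟩

/-- Coprime solvable actions on abelian groups have bases of size two. -/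
theorem hasPair_of_coprime_of (G V : Type) [Group G] [Finite G] [AddCommGroup V] [Finite V]
    [DistribMulAction G V] (hs : Group.IsSolvable G) (hcop : Nat.Coprime (Nat.card G) (Nat.card V)) :
    HasPair G V :=
  hasPair_aux hprimStep h5 h3 hcol3 _ G V hs hcop rfl

end H21.Base2
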