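import Cfsg.Agent.H21.Base2.Wrap
import Cfsg.Agent.H89.Base.ColourThree

/-!
Base size two from the primitive step alone.
-/

set_option autoImplicit false
set_option linter.style.haveILetI false

namespace H21.Base2

theorem colThree : ColThree := H89.ColThree.colThree

/-- The elementary statement from the primitive step. -/
theorem coprimeBase2_of_prim (hprimStep : PrimStep) : H15.BaseRed.CoprimeBase2 :=
  coprimeBase2_of_steps hprimStep colThree

end H21.Base2
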