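import Cfsg.Agent.H21.Base2.Link
import Cfsg.Agent.H27.Base2.Core

/-!
The single-colour cases from certificates on the models.
-/

set_option autoImplicit false
set_option linter.style.haveILetI false
set_option linter.unusedSectionVars false

namespace H21.Base2

open Module H27.Base2

/-- Two vectors of the model with trivial common stabiliser in the normaliser. -/
def ModelCert (p : ℕ) (tw : Bool) (k : ℕ) : Prop :=
  ∀ (K : Type) [Field K] [Finite K], Nat.card K = p →
    ∃ x y : Fin (2 ^ k) → K, ∀ g : (Module.End K (Fin (2 ^ k) → K))ˣ, NormModel K tw k g →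
      (g : Module.End K (Fin (2 ^ k) → K)) x = x → (g : Module.End K (Fin (2 ^ k) → K)) y = y → g = 1

/-- The model has no coprime solvable group with minimal Pauli group. -/
def ModelNone (p : ℕ) (tw : Bool) (k : ℕ) : Prop :=
  ∀ (K : Type) [Field K] [Finite K] (Γ : Subgroup (Module.End K (Fin (2 ^ k) → K))ˣ),
    Nat.card K = p → ¬ ModelSetup (twisted := tw) Γ

/-- Every coprime solvable group on the model has a pair. -/
def ModelPair (p : ℕ) (tw : Bool) (k : ℕ) : Prop :=
  ∀ (K : Type) [Field K] [Finite K] (Γ : Subgroup (Module.End K (Fin (2 ^ k) → K))ˣ),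
    Nat.card K = p → ModelSetup (twisted := tw) Γ → PairFor Γ

theorem ModelCert.pair {p : ℕ} {tw : Bool} {k : ℕ} (h : ModelCert p tw k) : ModelPair p tw k := by
  intro K _ _ Γ hK hΓ
  obtain ⟨x, y, hxy⟩ := h K hK
  exact ⟨x, y, fun g hg hx hy => hxy g (hΓ.normModel g hg) hx hy⟩

theorem ModelNone.pair {p : ℕ} {tw : Bool} {k : ℕ} (h : ModelNone p tw k) : ModelPair p tw k :=
  fun K _ _ Γ hK hΓ => absurd hΓ (h K Γ hK)

/-- The remaining cases of the core. -/
theorem residual_of (h52 : ModelPair 5 false 2) (h53 : ModelPair 5 false 3) (h54 : ModelPair 5 false 4)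
    (h32 : ModelPair 3 false 2) (h33 : ModelPair 3 false 3) (h34 : ModelPair 3 false 4)
    (t3 : ModelPair 3 true 3) (t4 : ModelPair 3 true 4) (t5 : ModelPair 3 true 5) : Residual := by
  intro K V _ _ _ _ _ _ G hG S F _ htop hr hq n hn hn2 hn4
  obtain ⟨p, hK, hp⟩ : ∃ p, Nat.card K = p ∧ (p = 3 ∨ p = 5) := ⟨_, rfl, hq⟩
  obtain ⟨tw, k, Θ, Γ, hΓ, hmem, -, hcard, htw⟩ := Link.exists_model F hG hr htop hK hp
  refine Link.pairFor_of_image Θ hmem ?_
  rw [hn] at hcard
  have hk := Nat.pow_right_injective (le_refl 2) hcard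
  cases tw
  · simp only [Bool.false_eq_true, if_false] at hk
    subst hk
    rcases hp with rfl | rfl <;> interval_cases n
    · exact h32 K Γ hK hΓ
    · exact h33 K Γ hK hΓ
    · exact h34 K Γ hK hΓ
    · exact h52 K Γ hK hΓ
    · exact h53 K Γ hK hΓ
    · exact h54 K Γ hK hΓ
  · simp only [if_true] at hk
    have hp3 := htw rfl
    subst hp3
    obtain rfl : k = n + 1 := by omega
    interval_cases n
    · exact t3 K Γ hK hΓ
    · exact t4 K Γ hK hΓ
    · exact t5 K Γ hK hΓ

end H21.Base2
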