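import Cfsg.Agent.H21.Base3.Orbits
import Cfsg.Agent.H15.BaseRed.Linear

/-!
The representation form of the base-two theorem.
-/

set_option autoImplicit false
set_option linter.style.haveILetI false
set_option linter.unusedSectionVars false

namespace H21.Base2

/-- The statement over a field from the statement on elementary abelian groups. -/
theorem exists_pair_of_representation (hB : H15.BaseRed.CoprimeBase2) {F : Type*} [Field F] [Finite F]
    {V : Type*} [AddCommGroup V] [Module F V] [Finite V] {G : Type*} [Group G] [Finite G]
    [Group.IsSolvable G] (ρ : Representation F G V) (hfaith : Function.Injective ρ)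
    (hcop : (Nat.card G).Coprime (Nat.card V)) :
    ∃ x y : V, ∀ g : G, ρ g x = x → ρ g y = y → g = 1 := by
  letI : DistribMulAction G V :=
    { smul := fun g v => ρ g v
      one_smul := fun v => by show ρ 1 v = v; rw [map_one]; rfl
      mul_smul := fun g h v => by show ρ (g * h) v = ρ g (ρ h v); rw [map_mul]; rfl
      smul_zero := fun g => map_zero (ρ g)
      smul_add := fun g v w => map_add (ρ g) v w }
  obtain ⟨p, hp⟩ := CharP.exists F
  haveI := hp
  haveI := Fintype.ofFinite F
  obtain ⟨x, y, h⟩ := hB.hasPair (p := p) (CharP.char_is_prime F p)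
    (fun v : V => by rw [← Nat.cast_smul_eq_nsmul F, CharP.cast_eq_zero, zero_smul]) hcop
  refine ⟨x, y, fun g hx hy => hfaith ?_⟩
  rw [map_one]
  exact LinearMap.ext fun v => h g hx hy v

/-- The elementary statement from the steps. -/
theorem coprimeBase2_of_steps (hprimStep : PrimStep) (hcol3 : ColThree) :
    H15.BaseRed.CoprimeBase2 := fun G V _ _ hs _ _ _ _ _ _ hcop =>
  hasPair_of_coprime_of hprimStep H21.Base3.fivePairs H21.Base3.threePairs hcol3 G V hs hcop

end H21.Base2
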